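import Groth.Agent.Lib.FlatDepth.FibBC
import Groth.Agent.Lib.FlatDepth.FibreIdeal
import Groth.Agent.Lib.FlatDepth.FourTermLocal
import Groth.Agent.Lib.FlatDepth.RingFib
import Groth.Agent.Lib.Depth.SkOps
import Mathlib

/-!
# Depth of fibre local rings under base change; fibre depth of projective modules
-/

set_option autoImplicit false
set_option backward.isDefEq.respectTransparency false
set_option backward.isDefEq.respectTransparency.types false
set_option linter.style.haveILetI false

namespace Groth.Agent.QGor6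

universe u

open TensorProduct IsLocalRing

/-- The local ring of a fibre ring is the fibre local ring. -/
theorem nonempty_fiberAtPrimeEquiv {A B : Type u} [CommRing A] [CommRing B] [Algebra A B] (p : Ideal A) [p.IsPrime]
    (Q : Ideal (p.Fiber B)) [Q.IsPrime] (q : Ideal B) [q.IsPrime]
    (hq : Q.comap (Algebra.TensorProduct.includeRight : B →ₐ[A] p.Fiber B) = q) :
    Nonempty (Localization.AtPrime Q ≃+* EGA4.FibLocRing A B q) := by
  subst hq
  have hp : (Q.comap (Algebra.TensorProduct.includeRight : B →ₐ[A] p.Fiber B)).comap (algebraMap A B) = p := by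
    have h1 : Q.comap (algebraMap p.ResidueField (p.Fiber B)) = ⊥ :=
      (Ideal.eq_bot_or_top _).resolve_right (Ideal.comap_ne_top _ (Ideal.IsPrime.ne_top ‹_›))
    calc _ = (Q.comap (algebraMap p.ResidueField (p.Fiber B))).comap (algebraMap A p.ResidueField) := by
          ext a
          simp only [Ideal.mem_comap, AlgHom.commutes, ← IsScalarTower.algebraMap_apply]
      _ = p := by rw [h1, ← RingHom.ker_eq_comap_bot, Ideal.ker_algebraMap_residueField]
  let e : Localization.AtPrime Q ≃+*
      EGA4.FibLocRing A B (Q.comap (Algebra.TensorProduct.includeRight : B →ₐ[A] p.Fiber B)) :=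
    (Ideal.Fiber.algEquivAux₂ p Q).toRingEquiv.trans (Ideal.quotEquivOfEq (by
      rw [Ideal.map_map, ← IsScalarTower.algebraMap_eq, hp]))
  exact ⟨e⟩

/-- The local ring of a fibre ring has the depth of the fibre local ring. -/
theorem depth_fiber_atPrime {A B : Type u} [CommRing A] [CommRing B] [Algebra A B] (p : Ideal A) [p.IsPrime]
    (Q : Ideal (p.Fiber B)) [Q.IsPrime] (q : Ideal B) [q.IsPrime]
    (hq : Q.comap (Algebra.TensorProduct.includeRight : B →ₐ[A] p.Fiber B) = q) :
    LocCoh.depth (Localization.AtPrime Q) (Localization.AtPrime Q) =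
      LocCoh.depth (EGA4.FibLocRing A B q) (EGA4.FibLocRing A B q) := by
  obtain ⟨e⟩ := nonempty_fiberAtPrimeEquiv p Q q hq
  exact (SMT.depth_eq_of_ringEquiv e).symm

variable {A B A' B' : Type u} [CommRing A] [CommRing B] [IsNoetherianRing B] [Algebra A B]
  [CommRing A'] [CommRing B'] [IsNoetherianRing B'] [Algebra A A'] [Algebra B B'] [Algebra A' B']
  [Algebra A B'] [IsScalarTower A B B'] [IsScalarTower A A' B'] [Algebra.IsPushout A B A' B']

/-- The depth of the fibre local rings does not drop under base change. -/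
theorem depth_fibLocRing_le_baseChange (q' : Ideal B') [q'.IsPrime] (q : Ideal B) [q.IsPrime]
    (hq : q'.comap (algebraMap B B') = q) :
    LocCoh.depth (EGA4.FibLocRing A B q) (EGA4.FibLocRing A B q) ≤
      LocCoh.depth (EGA4.FibLocRing A' B' q') (EGA4.FibLocRing A' B' q') := by
  haveI : Algebra.IsPushout A A' B B' := Algebra.IsPushout.symm inferInstance
  let P : PrimeSpectrum A' := PrimeSpectrum.comap (algebraMap A' B') ⟨q', ‹_›⟩
  let Q' := PrimeSpectrum.preimageEquivFiber A' B' P ⟨⟨q', ‹_›⟩, rfl⟩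
  have hQ' : Q'.asIdeal.comap (Algebra.TensorProduct.includeRight : B' →ₐ[A'] P.asIdeal.Fiber B') = q' :=
    congrArg (fun x => x.1.asIdeal)
      ((PrimeSpectrum.preimageEquivFiber A' B' P).symm_apply_apply ⟨⟨q', ‹_›⟩, rfl⟩)
  let p := P.asIdeal.under A
  haveI : P.asIdeal.LiesOver p := ⟨rfl⟩
  letI := Localization.AtPrime.algebraOfLiesOver p P.asIdeal
  let ψ : p.Fiber B ⊗[p.ResidueField] P.asIdeal.ResidueField ≃+* P.asIdeal.Fiber B' :=
    (Algebra.TensorProduct.comm p.ResidueField (p.Fiber B) P.asIdeal.ResidueField).toRingEquiv.trans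
      (((Algebra.TensorProduct.cancelBaseChange A p.ResidueField P.asIdeal.ResidueField
          P.asIdeal.ResidueField B).trans
        ((Algebra.TensorProduct.cancelBaseChange A A' P.asIdeal.ResidueField P.asIdeal.ResidueField B).symm.trans
          (Algebra.TensorProduct.congr AlgEquiv.refl (Algebra.IsPushout.equiv A A' B B')))).toRingEquiv)
  have hψ : ∀ b : B, ψ (algebraMap (p.Fiber B) _ ((1 : p.ResidueField) ⊗ₜ[A] b)) =
      (1 : P.asIdeal.ResidueField) ⊗ₜ[A'] algebraMap B B' b := fun b => by
    simp [ψ, Algebra.TensorProduct.algebraMap_apply, Algebra.IsPushout.equiv_tmul]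
  haveI : IsNoetherianRing (P.asIdeal.Fiber B') := FlatDepth.isNoetherianRing_fiber _
  haveI : IsNoetherianRing (p.Fiber B) := FlatDepth.isNoetherianRing_fiber _
  haveI : IsNoetherianRing (p.Fiber B ⊗[p.ResidueField] P.asIdeal.ResidueField) :=
    isNoetherianRing_of_ringEquiv _ ψ.symm
  let Q'' : Ideal (p.Fiber B ⊗[p.ResidueField] P.asIdeal.ResidueField) :=
    Q'.asIdeal.comap (RingHomClass.toRingHom ψ)
  haveI : Q''.IsPrime := Ideal.IsPrime.comap _
  let Q := Q''.comap (algebraMap (p.Fiber B) _)
  have hQ : Q.comap (Algebra.TensorProduct.includeRight : B →ₐ[A] p.Fiber B) = q := by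
    rw [← hq, ← hQ']
    ext b
    show ψ (algebraMap (p.Fiber B) _ ((1 : p.ResidueField) ⊗ₜ[A] b)) ∈ Q'.asIdeal ↔ _
    rw [hψ]
    rfl
  have h := (FlatDepth.ring_invariants (A := p.Fiber B) (B := p.Fiber B ⊗[p.ResidueField] P.asIdeal.ResidueField) Q'').1
  let e :=
    FlatDepth.atPrimeRingEquiv (R := p.Fiber B ⊗[p.ResidueField] P.asIdeal.ResidueField)
      (S := P.asIdeal.Fiber B') ψ Q'.asIdeal
  rw [← depth_fiber_atPrime p Q q hQ, ← depth_fiber_atPrime P.asIdeal Q'.asIdeal q' hQ',
    SMT.depth_eq_of_ringEquiv e]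
  exact le_self_add.trans_eq h.symm

variable (A A' B') in
/-- Fibrewise depth along `J` is stable under base change. -/
theorem fibre_depth_baseChange (J : Ideal B) (n : ℕ∞)
    (hZ : ∀ q : PrimeSpectrum B, J ≤ q.asIdeal →
      n ≤ LocCoh.idealDepth (q.asIdeal.map (algebraMap B (EGA4.FibLocRing A B q.asIdeal)))
        (EGA4.FibLocRing A B q.asIdeal))
    (q' : PrimeSpectrum B') (hq' : J.map (algebraMap B B') ≤ q'.asIdeal) :
    n ≤ LocCoh.idealDepth (q'.asIdeal.map (algebraMap B' (EGA4.FibLocRing A' B' q'.asIdeal)))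
      (EGA4.FibLocRing A' B' q'.asIdeal) := by
  have h := hZ (PrimeSpectrum.comap (algebraMap B B') q') (Ideal.map_le_iff_le_comap.1 hq')
  rw [FlatDepth.map_fibLocRing_eq_maximalIdeal] at h ⊢
  exact h.trans (depth_fibLocRing_le_baseChange q'.asIdeal _ rfl)

/-- The fibre stalks of a finite projective module are as deep as those of the ring. -/
theorem fibre_depth_projective (E : Type u) [AddCommGroup E] [Module B E] [Module.Finite B E]
    [Module.Projective B E] (q : Ideal B) [q.IsPrime] (n : ℕ∞)
    (h : n ≤ LocCoh.idealDepth (q.map (algebraMap B (EGA4.FibLocRing A B q))) (EGA4.FibLocRing A B q)) :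
    n ≤ LocCoh.idealDepth (q.map (algebraMap B (EGA4.FibLocRing A B q))) (EGA4.FibLocMod A B q E) := by
  have hs : Function.Surjective (algebraMap (Localization.AtPrime q) (EGA4.FibLocRing A B q)) :=
    Ideal.Quotient.mk_surjective
  rw [FlatDepth.map_fibLocRing_eq_maximalIdeal] at h ⊢
  change n ≤ LocCoh.depth _ _ at h ⊢
  rw [← FlatDepth.depth_eq_of_surjective _ hs] at h ⊢
  haveI : Module.Free (Localization.AtPrime q) (LocalizedModule q.primeCompl E) :=
    Module.free_of_flat_of_isLocalRing
  obtain ⟨m, ⟨b⟩⟩ : ∃ m, Nonempty (LocalizedModule q.primeCompl E ≃ₗ[Localization.AtPrime q]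
      (Fin m → Localization.AtPrime q)) :=
    ⟨_, ⟨(Module.finBasis _ _).equivFun⟩⟩
  let I := (q.comap (algebraMap A B)).map (algebraMap A (Localization.AtPrime q))
  let e : EGA4.FibLocMod A B q E ≃ₗ[Localization.AtPrime q] (Fin m → EGA4.FibLocRing A B q) :=
    (TensorProduct.quotTensorEquivQuotSMul (LocalizedModule q.primeCompl E) I).symm.trans
      ((LinearEquiv.lTensor (Localization.AtPrime q ⧸ I) b).trans
        (TensorProduct.piScalarRight (Localization.AtPrime q) (Localization.AtPrime q)
          (Localization.AtPrime q ⧸ I) (Fin m)))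
  rw [LocCoh.depth, DepthLib.idealDepth_congr e]
  exact h.trans (DepthLib.idealDepth_le_pi _ m)

end Groth.Agent.QGor6
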