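import Groth.Agent.Lib.Depth.ReflexiveLoc
import Groth.Agent.Lib.Depth.HomDepth
import Groth.Agent.Lib.FlatDepth.AtPrime
import Mathlib

/-!
# Maps invertible up to a scalar; retracts of projectives up to a scalar
-/

set_option autoImplicit false
set_option linter.style.haveILetI false

namespace Groth.Agent.QGor6

universe u

open TensorProduct CategoryTheory

variable {R : Type u} [CommRing R] {M N : Type u} [AddCommGroup M] [Module R M] [AddCommGroup N] [Module R N]

/-- `r` inverts `f` up to the scalar `s`. -/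
def IsQuasiInv (s : R) (f : M →ₗ[R] N) (r : N →ₗ[R] M) : Prop :=
  r ∘ₗ f = s • LinearMap.id ∧ f ∘ₗ r = s • LinearMap.id

theorem IsQuasiInv.dualMap {s : R} {f : M →ₗ[R] N} {r : N →ₗ[R] M} (h : IsQuasiInv s f r) :
    IsQuasiInv s f.dualMap r.dualMap := by
  refine ⟨LinearMap.ext fun ψ => LinearMap.ext fun x => ?_, LinearMap.ext fun ψ => LinearMap.ext fun x => ?_⟩
  · simpa using congrArg ψ (LinearMap.congr_fun h.2 x)
  · simpa using congrArg ψ (LinearMap.congr_fun h.1 x)

theorem IsQuasiInv.baseChange {S : Type u} [CommRing S] [Algebra R S] {s : R} {f : M →ₗ[R] N}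
    {r : N →ₗ[R] M} (h : IsQuasiInv s f r) :
    IsQuasiInv (algebraMap R S s) (f.baseChange S) (r.baseChange S) := by
  constructor
  · rw [← LinearMap.baseChange_comp, h.1, LinearMap.baseChange_smul, LinearMap.baseChange_id,
      algebraMap_smul]
  · rw [← LinearMap.baseChange_comp, h.2, LinearMap.baseChange_smul, LinearMap.baseChange_id,
      algebraMap_smul]

/-- A map locally bijective at `S` with finite kernel and cokernel has a quasi-inverse. -/
theorem exists_quasiInv [IsNoetherianRing R] [Module.Finite R M] [Module.Finite R N] (S : Submonoid R)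
    (f : M →ₗ[R] N) (hker : ∀ x, f x = 0 → ∃ s ∈ S, s • x = 0)
    (hcok : ∀ y, ∃ s ∈ S, s • y ∈ LinearMap.range f) :
    ∃ s ∈ S, ∃ r, IsQuasiInv s f r := by
  classical
  obtain ⟨σ, hσ⟩ := IsNoetherian.noetherian (LinearMap.ker f)
  obtain ⟨τ, hτ⟩ := (Module.Finite.fg_top : (⊤ : Submodule R N).FG)
  choose a ha ha0 using fun x : σ => hker x (hσ.le (Submodule.subset_span x.2))
  choose b hb hb0 using fun y : τ => hcok y
  let s := (∏ x, a x) * ∏ y, b y
  have hs : s ∈ S := S.mul_mem (prod_mem fun x _ => ha x) (prod_mem fun y _ => hb y)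
  have hk : LinearMap.ker f ≤ LinearMap.ker (s • LinearMap.id : M →ₗ[R] M) := by
    rw [← hσ, Submodule.span_le]
    intro x hx
    obtain ⟨t, ht⟩ : a ⟨x, hx⟩ ∣ s :=
      dvd_mul_of_dvd_left (Finset.dvd_prod_of_mem _ (Finset.mem_univ _)) _
    simp [ht, mul_comm (a _), mul_smul, ha0 ⟨x, hx⟩]
  have hr : ∀ y : N, s • y ∈ LinearMap.range f := by
    have : (⊤ : Submodule R N) ≤ (LinearMap.range f).comap (s • LinearMap.id : N →ₗ[R] N) := by
      rw [← hτ, Submodule.span_le]
      intro y hy
      obtain ⟨t, ht⟩ : b ⟨y, hy⟩ ∣ s :=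
        dvd_mul_of_dvd_right (Finset.dvd_prod_of_mem _ (Finset.mem_univ _)) _
      simp only [SetLike.mem_coe, Submodule.mem_comap, LinearMap.smul_apply, LinearMap.id_apply]
      rw [ht, mul_comm, mul_smul]
      exact Submodule.smul_mem _ _ (hb0 ⟨y, hy⟩)
    exact fun y => this (Submodule.mem_top (x := y))
  let back : LinearMap.range f →ₗ[R] M :=
    (LinearMap.ker f).liftQ (s • LinearMap.id) hk ∘ₗ (f.quotKerEquivRange).symm.toLinearMap
  have hback : ∀ x (h : f x ∈ LinearMap.range f), back ⟨f x, h⟩ = s • x := fun x h => by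
    have : f.quotKerEquivRange.symm ⟨f x, h⟩ = (LinearMap.ker f).mkQ x :=
      LinearMap.quotKerEquivRange_symm_apply_image f x h
    simp [back, this]
  let r : N →ₗ[R] M := back ∘ₗ (s • LinearMap.id : N →ₗ[R] N).codRestrict _ hr
  refine ⟨s * s, S.mul_mem hs hs, r, LinearMap.ext fun x => ?_, LinearMap.ext fun y => ?_⟩
  · show back ⟨s • f x, hr (f x)⟩ = (s * s) • x
    rw [show (⟨s • f x, hr (f x)⟩ : LinearMap.range f) = s • ⟨f x, LinearMap.mem_range_self f x⟩ from rfl,
      map_smul, hback]
    exact (mul_smul s s x).symm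
  · obtain ⟨x, hx⟩ := hr y
    show f (back ⟨s • y, hr y⟩) = (s * s) • y
    rw [show (⟨s • y, hr y⟩ : LinearMap.range f) = ⟨f x, LinearMap.mem_range_self f x⟩ from
      Subtype.ext hx.symm, hback, map_smul, hx]
    exact (mul_smul s s y).symm

/-- Depth two on the source and one on the target: a map invertible off `V(I)` is bijective. -/
theorem bijective_of_quasiInv [IsNoetherianRing R] [Module.Finite R M] [Module.Finite R N] (I : Ideal R)
    (hM : 2 ≤ LocCoh.idealDepth I M) (hN : 1 ≤ LocCoh.idealDepth I N) (f : M →ₗ[R] N)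
    (h : ∀ p : PrimeSpectrum R, ¬ I ≤ p.asIdeal → ∃ s ∉ p.asIdeal, ∃ r, IsQuasiInv s f r) :
    Function.Bijective f := by
  have hinj : Function.Injective f := by
    have hsupp : Module.support R (LinearMap.ker f) ⊆ PrimeSpectrum.zeroLocus I := by
      intro p hp a ha
      by_contra hap
      obtain ⟨⟨m, hm⟩, hk⟩ := Module.mem_support_iff'.1 hp
      obtain ⟨s, hs, r, hr⟩ := h p fun hle => hap (hle ha)
      have := LinearMap.congr_fun hr.1 m
      rw [LinearMap.comp_apply, LinearMap.mem_ker.1 hm, map_zero] at this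
      exact hk s hs (Subtype.ext this.symm)
    have h0 := DepthLib.subsingleton_ext_of_le_idealDepth (M := M) (n := 1)
      (by exact_mod_cast le_trans one_le_two hM) (ModuleCat.of R (LinearMap.ker f)) hsupp Nat.one_pos
    have h00 : ModuleCat.ofHom (LinearMap.ker f).subtype = 0 :=
      (Abelian.Ext.mk₀_bijective _ _).1 (@Subsingleton.elim _ h0 _ _)
    intro x y hxy
    have hmem : x - y ∈ LinearMap.ker f := by simp [hxy]
    exact sub_eq_zero.1 (congr(($h00).hom ⟨x - y, hmem⟩))
  refine ⟨hinj, ?_⟩
  let S : ShortComplex (ModuleCat.{u} R) :=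
    ShortComplex.mk (ModuleCat.ofHom f) (ModuleCat.ofHom (LinearMap.range f).mkQ) (by
      ext z
      exact (Submodule.Quotient.mk_eq_zero _).2 (LinearMap.mem_range_self f z))
  have hS : S.ShortExact :=
    { exact := by
        rw [ShortComplex.moduleCat_exact_iff]
        intro z hz
        exact (Submodule.Quotient.mk_eq_zero _).1 hz
      mono_f := (ModuleCat.mono_iff_injective _).mpr hinj
      epi_g := (ModuleCat.epi_iff_surjective _).mpr (Submodule.mkQ_surjective _) }
  haveI : Module.Finite R S.X₁ := inferInstanceAs (Module.Finite R M)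
  haveI : Module.Finite R S.X₂ := inferInstanceAs (Module.Finite R N)
  haveI : Module.Finite R S.X₃ := inferInstanceAs (Module.Finite R (N ⧸ LinearMap.range f))
  have hC : 1 ≤ LocCoh.idealDepth I (N ⧸ LinearMap.range f) := by
    refine le_trans (le_min hN ?_) (DepthLib.idealDepth_shortExact (I := I) hS).2.1
    exact ENat.le_sub_of_add_le_right ENat.one_ne_top (by norm_num; exact hM)
  have hsupp : Module.support R (N ⧸ LinearMap.range f) ⊆ PrimeSpectrum.zeroLocus I := by
    intro p hp a ha
    by_contra hap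
    obtain ⟨m, hk⟩ := Module.mem_support_iff'.1 hp
    obtain ⟨y, rfl⟩ := Submodule.Quotient.mk_surjective _ m
    obtain ⟨s, hs, r, hr⟩ := h p fun hle => hap (hle ha)
    refine hk s hs ?_
    rw [← Submodule.Quotient.mk_smul, Submodule.Quotient.mk_eq_zero]
    exact ⟨r y, LinearMap.congr_fun hr.2 y⟩
  have h0 := DepthLib.subsingleton_ext_of_le_idealDepth (M := N ⧸ LinearMap.range f) (n := 1)
    (by exact_mod_cast hC) (ModuleCat.of R _) hsupp Nat.one_pos
  have h00 : CategoryStruct.id (ModuleCat.of R (N ⧸ LinearMap.range f)) = 0 :=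
    (Abelian.Ext.mk₀_bijective _ _).1 (@Subsingleton.elim _ h0 _ _)
  intro y
  exact (Submodule.Quotient.mk_eq_zero _).1
    (congr(($h00).hom (Submodule.Quotient.mk (p := LinearMap.range f) y)))

/-- A finite module free at `q` is, up to a scalar outside `q`, a retract of a free module. -/
theorem exists_retract_of_free [IsNoetherianRing R] [Module.Finite R M] (q : Ideal R) [q.IsPrime]
    [Module.Free (Localization.AtPrime q) (LocalizedModule q.primeCompl M)] :
    ∃ s ∉ q, ∃ (k : ℕ) (a : M →ₗ[R] Fin k → R) (b : (Fin k → R) →ₗ[R] M), b ∘ₗ a = s • LinearMap.id := by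
  haveI : Module.FinitePresentation R M := Module.finitePresentation_of_finite R M
  obtain ⟨k, b, hb⟩ := Module.Finite.exists_fin' R M
  let mM := LocalizedModule.mkLinearMap q.primeCompl M
  let mF := LocalizedModule.mkLinearMap q.primeCompl (Fin k → R)
  let bq := LocalizedModule.map q.primeCompl b
  obtain ⟨σ, hσ⟩ := Module.projective_lifting_property bq LinearMap.id
    (LocalizedModule.map_surjective _ _ hb)
  obtain ⟨a, t, ha⟩ := Module.FinitePresentation.exists_lift_of_isLocalizedModule q.primeCompl mF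
    ((σ.restrictScalars R) ∘ₗ mM)
  have key : mM ∘ₗ (b ∘ₗ a) = mM ∘ₗ ((t : R) • LinearMap.id) := LinearMap.ext fun x => by
    have h1 : mF (a x) = (t : R) • σ (mM x) := LinearMap.congr_fun ha x
    have h2 : bq (mF (a x)) = mM (b (a x)) := by simp [bq, mF, mM, LocalizedModule.map_mk]
    show mM (b (a x)) = mM ((t : R) • x)
    rw [← h2, h1, ← algebraMap_smul (Localization.AtPrime q) (t : R) (σ (mM x)), map_smul bq, algebraMap_smul,
      LinearMap.map_smul]
    exact congrArg ((t : R) • ·) (LinearMap.congr_fun hσ (mM x))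
  obtain ⟨c, hc⟩ := Module.Finite.exists_smul_of_comp_eq_of_isLocalizedModule q.primeCompl mM _ _ key
  refine ⟨c.1 * t.1, (c * t).2, k, c.1 • a, b, ?_⟩
  rw [LinearMap.comp_smul, mul_smul]
  exact hc

/-- A retract of a projective, up to a scalar outside `q`, is projective at `q`. -/
theorem projective_localized_of_retract {P : Type u} [AddCommGroup P] [Module R P] [Module.Projective R P]
    (q : Ideal R) [q.IsPrime] {s : R} (hs : s ∉ q) (a : M →ₗ[R] P) (b : P →ₗ[R] M)
    (h : b ∘ₗ a = s • LinearMap.id) :
    Module.Projective (Localization.AtPrime q) (LocalizedModule q.primeCompl M) := by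
  have hu : IsUnit (algebraMap R (Localization.AtPrime q) s) :=
    IsLocalization.map_units (M := q.primeCompl) (Localization.AtPrime q) ⟨s, hs⟩
  haveI : Module.Projective (Localization.AtPrime q) (LocalizedModule q.primeCompl P) :=
    Module.projective_of_isLocalizedModule q.primeCompl (LocalizedModule.mkLinearMap q.primeCompl P)
  refine Module.Projective.of_split (LocalizedModule.map q.primeCompl a)
    ((hu.unit⁻¹ : (Localization.AtPrime q)ˣ).val • LocalizedModule.map q.primeCompl b) ?_
  refine LinearMap.ext fun z => ?_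
  induction z using LocalizedModule.induction_on with
  | h m t =>
    show (hu.unit⁻¹ : (Localization.AtPrime q)ˣ).val •
      LocalizedModule.map q.primeCompl b (LocalizedModule.map q.primeCompl a (LocalizedModule.mk m t)) = _
    rw [LocalizedModule.map_mk, LocalizedModule.map_mk,
      show b (a m) = s • m from LinearMap.congr_fun h m, ← LocalizedModule.smul'_mk,
      ← algebraMap_smul (Localization.AtPrime q) s (LocalizedModule.mk m t), smul_smul, IsUnit.val_inv_mul,
      one_smul]
    rfl

end Groth.Agent.QGor6
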