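import Groth.Agent.Lib.FlatDepth.FourTermLocal
import Groth.Agent.Lib.FlatDepth.AtPrime
import Groth.Agent.Lib.FlatDepth.Rings
import Groth.Agent.Lib.QGor6.QuasiInv
import Groth.Agent.Lib.QGor6.FibreDepth
import Mathlib

/-!
# The four term criterion and depth at a point, with hypotheses below that point
-/

set_option autoImplicit false
set_option backward.isDefEq.respectTransparency false
set_option backward.isDefEq.respectTransparency.types false
set_option linter.style.haveILetI false

namespace Groth.Agent.QGor6

universe u

open FlatDepth TensorProduct IsLocalRing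

variable {A B : Type u} [CommRing A] [CommRing B] [Algebra A B] [IsNoetherianRing B]

variable [IsNoetherianRing A]

/-- The four term criterion at `q`, with depth hypotheses only in the fibre below `q`. -/
theorem fourTerm_at' (J : Ideal B) (q : Ideal B) [q.IsPrime]
    {F E0 E1 G : Type u} [AddCommGroup F] [Module B F] [Module A F] [IsScalarTower A B F] [Module.Finite B F]
    [AddCommGroup E0] [Module B E0] [Module A E0] [IsScalarTower A B E0] [Module.Finite B E0] [Module.Flat A E0]
    [AddCommGroup E1] [Module B E1] [Module A E1] [IsScalarTower A B E1] [Module.Finite B E1] [Module.Flat A E1]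
    [AddCommGroup G] [Module B G] [Module A G] [IsScalarTower A B G] [Module.Finite B G]
    (f : F →ₗ[B] E0) (u : E0 →ₗ[B] E1) (v : E1 →ₗ[B] G)
    (hf : Function.Injective f) (hfu : Function.Exact f u) (huv : Function.Exact u v) (hv : Function.Surjective v)
    (hGU : ∀ q : PrimeSpectrum B, ¬ J ≤ q.asIdeal → FlatCA.FlatAt A q.asIdeal G)
    (h0 : ∀ (q' : Ideal B) [q'.IsPrime], q' ≤ q → J ≤ q' → q'.comap (algebraMap A B) = q.comap (algebraMap A B) →
      2 ≤ LocCoh.idealDepth (q'.map (algebraMap B (EGA4.FibLocRing A B q'))) (EGA4.FibLocMod A B q' E0))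
    (h1 : ∀ (q' : Ideal B) [q'.IsPrime], q' ≤ q → J ≤ q' → q'.comap (algebraMap A B) = q.comap (algebraMap A B) →
      1 ≤ LocCoh.idealDepth (q'.map (algebraMap B (EGA4.FibLocRing A B q'))) (EGA4.FibLocMod A B q' E1)) :
    (FlatCA.FlatAt A q G ↔ ∀ (q' : Ideal B) [q'.IsPrime], q' ≤ q → J ≤ q' →
        q'.comap (algebraMap A B) = q.comap (algebraMap A B) →
        2 ≤ LocCoh.idealDepth (q'.map (algebraMap B (EGA4.FibLocRing A B q'))) (EGA4.FibLocMod A B q' F)) ∧
      (FlatCA.FlatAt A q G → FlatCA.FlatAt A q F) := by
  let p := q.comap (algebraMap A B)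
  haveI : q.LiesOver p := ⟨rfl⟩
  letI := Localization.AtPrime.algebraOfLiesOver p q
  haveI : IsScalarTower A (Localization.AtPrime p) (Localization.AtPrime q) :=
    .of_algebraMap_eq fun a => by
      rw [show algebraMap (Localization.AtPrime p) (Localization.AtPrime q) =
        Localization.localRingHom p q (algebraMap A B) rfl from rfl,
        Localization.localRingHom_to_map, ← IsScalarTower.algebraMap_apply]
  haveI : IsLocalHom (algebraMap (Localization.AtPrime p) (Localization.AtPrime q)) :=
    Localization.isLocalHom_localRingHom p q (algebraMap A B) rfl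
  letI mF : Module (Localization.AtPrime p) (LocalizedModule q.primeCompl F) :=
    Module.compHom _ (algebraMap (Localization.AtPrime p) (Localization.AtPrime q))
  letI m0 : Module (Localization.AtPrime p) (LocalizedModule q.primeCompl E0) :=
    Module.compHom _ (algebraMap (Localization.AtPrime p) (Localization.AtPrime q))
  letI m1 : Module (Localization.AtPrime p) (LocalizedModule q.primeCompl E1) :=
    Module.compHom _ (algebraMap (Localization.AtPrime p) (Localization.AtPrime q))
  letI mG : Module (Localization.AtPrime p) (LocalizedModule q.primeCompl G) :=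
    Module.compHom _ (algebraMap (Localization.AtPrime p) (Localization.AtPrime q))
  haveI : IsScalarTower (Localization.AtPrime p) (Localization.AtPrime q) (LocalizedModule q.primeCompl F) :=
    IsScalarTower.of_algebraMap_smul fun _ _ => rfl
  haveI : IsScalarTower (Localization.AtPrime p) (Localization.AtPrime q) (LocalizedModule q.primeCompl E0) :=
    IsScalarTower.of_algebraMap_smul fun _ _ => rfl
  haveI : IsScalarTower (Localization.AtPrime p) (Localization.AtPrime q) (LocalizedModule q.primeCompl E1) :=
    IsScalarTower.of_algebraMap_smul fun _ _ => rfl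
  haveI : IsScalarTower (Localization.AtPrime p) (Localization.AtPrime q) (LocalizedModule q.primeCompl G) :=
    IsScalarTower.of_algebraMap_smul fun _ _ => rfl
  have tower : ∀ (N : Type u) [AddCommGroup N] [Module B N] [Module A N] [IsScalarTower A B N]
      [Module (Localization.AtPrime p) (LocalizedModule q.primeCompl N)]
      [IsScalarTower (Localization.AtPrime p) (Localization.AtPrime q) (LocalizedModule q.primeCompl N)],
      IsScalarTower A (Localization.AtPrime p) (LocalizedModule q.primeCompl N) := fun N _ _ _ _ _ _ =>
    IsScalarTower.of_algebraMap_smul fun a z => by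
      rw [← algebraMap_smul (Localization.AtPrime q), ← IsScalarTower.algebraMap_apply, algebraMap_smul]
  haveI := tower F
  haveI := tower E0
  haveI := tower E1
  haveI := tower G
  haveI : Module.Flat (Localization.AtPrime p) (LocalizedModule q.primeCompl E0) :=
    (Module.flat_iff_of_isLocalization (Localization.AtPrime p) p.primeCompl _).2
      (flat_localizedModule_of_flat E0 _)
  haveI : Module.Flat (Localization.AtPrime p) (LocalizedModule q.primeCompl E1) :=
    (Module.flat_iff_of_isLocalization (Localization.AtPrime p) p.primeCompl _).2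
      (flat_localizedModule_of_flat E1 _)
  let J' := J.map (algebraMap B (Localization.AtPrime q))
  have hI : EGA4.mB (Localization.AtPrime p) (Localization.AtPrime q) =
      (p.map (algebraMap A B)).map (algebraMap B (Localization.AtPrime q)) := by
    rw [EGA4.mB, ← Localization.AtPrime.map_eq_maximalIdeal, Ideal.map_map, Ideal.map_map,
      ← IsScalarTower.algebraMap_eq, ← IsScalarTower.algebraMap_eq]
  have hdep : ∀ (N : Type u) [AddCommGroup N] [Module B N] [Module.Finite B N] (k : ℕ),
      (k : ℕ∞) ≤ LocCoh.idealDepth J'
          (EGA4.FibMod (Localization.AtPrime p) (Localization.AtPrime q) (LocalizedModule q.primeCompl N)) ↔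
      ∀ (q' : Ideal B) [q'.IsPrime], q' ≤ q → J ≤ q' →
        q'.comap (algebraMap A B) = q.comap (algebraMap A B) →
        (k : ℕ∞) ≤ LocCoh.idealDepth (q'.map (algebraMap B (EGA4.FibLocRing A B q')))
          (EGA4.FibLocMod A B q' N) := by
    intro N _ _ _ k
    rw [← natCast_le_idealDepth_fibre_localized_iff]
    exact iff_of_eq (congrArg (fun d => (k : ℕ∞) ≤ d) (DepthLib.idealDepth_congr
      ((localizeQuotModEquiv N (p.map (algebraMap A B)) q.primeCompl).trans
        (Submodule.quotEquivOfEq _ _ (by rw [hI]))).symm))
  have hU : ∀ Q : PrimeSpectrum (Localization.AtPrime q), ¬ J' ≤ Q.asIdeal →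
      FlatCA.FlatAt (Localization.AtPrime p) Q.asIdeal (LocalizedModule q.primeCompl G) := fun Q hQ =>
    (Module.flat_iff_of_isLocalization (Localization.AtPrime p) p.primeCompl _).2
      (flatAt_localized G q.primeCompl Q.asIdeal (hGU ⟨_, Ideal.IsPrime.comap _⟩
        fun h => hQ (Ideal.map_le_iff_le_comap.2 h)))
  have h := Groth.Agent.S18708.result (Localization.AtPrime p) (Localization.AtPrime q) J'
    (LocalizedModule q.primeCompl F) (LocalizedModule q.primeCompl E0)
    (LocalizedModule q.primeCompl E1) (LocalizedModule q.primeCompl G)
    (LocalizedModule.map q.primeCompl f) (LocalizedModule.map q.primeCompl u)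
    (LocalizedModule.map q.primeCompl v) (LocalizedModule.map_injective _ _ hf)
    (LocalizedModule.map_exact _ _ _ hfu) (LocalizedModule.map_exact _ _ _ huv)
    (LocalizedModule.map_surjective _ _ hv) hU
    (by exact_mod_cast (hdep E0 2).2 fun q' _ hl hJ hc => by exact_mod_cast h0 q' hl hJ hc)
    (by exact_mod_cast (hdep E1 1).2 fun q' _ hl hJ hc => by exact_mod_cast h1 q' hl hJ hc)
  have hG := Module.flat_iff_of_isLocalization (Localization.AtPrime p) p.primeCompl
    (LocalizedModule q.primeCompl G)
  refine ⟨?_, fun hGq => (Module.flat_iff_of_isLocalization (Localization.AtPrime p) p.primeCompl _).1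
    (h.2.2 (hG.2 hGq))⟩
  refine hG.symm.trans (h.1.symm.trans ?_)
  exact_mod_cast hdep F 2


section

variable (F : Type u) [AddCommGroup F] [Module B F] [Module A F] [IsScalarTower A B F]
variable (E : Type u) [AddCommGroup E] [Module A E]
variable (q : Ideal B) [q.IsPrime] [Module.Finite A E] [Module.Finite B F]

/-- Depth at `q` of a module flat over the base at `q`. -/
theorem depth_localized_tensor_of_flatAt (hflat : FlatCA.FlatAt A q F) :
    LocCoh.depth (Localization.AtPrime q) (LocalizedModule q.primeCompl (F ⊗[A] E)) =
        LocCoh.depth (Localization.AtPrime (q.comap (algebraMap A B)))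
          (LocalizedModule (q.comap (algebraMap A B)).primeCompl E) +
        LocCoh.depth (EGA4.FibLocRing A B q) (EGA4.FibLocMod A B q F) := by
  let p := q.comap (algebraMap A B)
  haveI : q.LiesOver p := ⟨rfl⟩
  letI := Localization.AtPrime.algebraOfLiesOver p q
  haveI : IsScalarTower A (Localization.AtPrime p) (Localization.AtPrime q) :=
    .of_algebraMap_eq fun a => by
      rw [show algebraMap (Localization.AtPrime p) (Localization.AtPrime q) =
        Localization.localRingHom p q (algebraMap A B) rfl from rfl,
        Localization.localRingHom_to_map, ← IsScalarTower.algebraMap_apply]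
  haveI : IsLocalHom (algebraMap (Localization.AtPrime p) (Localization.AtPrime q)) :=
    Localization.isLocalHom_localRingHom p q (algebraMap A B) rfl
  letI : Module (Localization.AtPrime p) (LocalizedModule q.primeCompl F) :=
    Module.compHom _ (algebraMap (Localization.AtPrime p) (Localization.AtPrime q))
  haveI : IsScalarTower (Localization.AtPrime p) (Localization.AtPrime q)
      (LocalizedModule q.primeCompl F) :=
    IsScalarTower.of_algebraMap_smul fun _ _ => rfl
  haveI : IsScalarTower A (Localization.AtPrime p) (LocalizedModule q.primeCompl F) :=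
    IsScalarTower.of_algebraMap_smul fun a z => by
      change algebraMap (Localization.AtPrime p) (Localization.AtPrime q)
        (algebraMap A (Localization.AtPrime p) a) • z = _
      rw [← IsScalarTower.algebraMap_apply, algebraMap_smul]
  haveI : Module.Flat (Localization.AtPrime p) (LocalizedModule q.primeCompl F) :=
    (Module.flat_iff_of_isLocalization (Localization.AtPrime p) p.primeCompl _).2
      hflat
  let e := localizeEquiv F E q p
  have hI : (maximalIdeal (Localization.AtPrime p)).map
      (algebraMap (Localization.AtPrime p) (Localization.AtPrime q)) =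
      p.map (algebraMap A (Localization.AtPrime q)) := by
    rw [← Localization.AtPrime.map_eq_maximalIdeal, Ideal.map_map, ← IsScalarTower.algebraMap_eq]
  let eF : LocalizedModule q.primeCompl F ⊗[Localization.AtPrime p]
      (Localization.AtPrime p ⧸ maximalIdeal (Localization.AtPrime p)) ≃ₗ[Localization.AtPrime q]
      EGA4.FibLocMod A B q F :=
    (tensorQuotEquiv _ _).trans (Submodule.quotEquivOfEq _ _ (by rw [hI]))
  have hs : Function.Surjective (algebraMap (Localization.AtPrime q) (EGA4.FibLocRing A B q)) :=
    Ideal.Quotient.mk_surjective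
  haveI : Module.Finite (EGA4.FibLocRing A B q) (EGA4.FibLocMod A B q F) :=
    Module.Finite.of_restrictScalars_finite (Localization.AtPrime q) _ _
  rw [← depth_eq_of_surjective _ hs, LocCoh.depth, DepthLib.idealDepth_congr e, ← LocCoh.depth,
    depth_tensor, LocCoh.depth, LocCoh.depth, DepthLib.idealDepth_congr eF]
  rfl

end

/-- Over an Artinian base, depth is read on the fibre where the module is flat. -/
theorem depth_fibre_of_flatAt_artinian [IsArtinianRing A] [IsLocalRing A] (F : Type u) [AddCommGroup F]
    [Module B F] [Module A F] [IsScalarTower A B F] [Module.Finite B F] (q : Ideal B) [q.IsPrime]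
    (hflat : FlatCA.FlatAt A q F) :
    LocCoh.depth (Localization.AtPrime q) (LocalizedModule q.primeCompl F) =
      LocCoh.depth (EGA4.FibLocRing A B q) (EGA4.FibLocMod A B q F) := by
  let e : LocalizedModule q.primeCompl (F ⊗[A] A) ≃ₗ[Localization.AtPrime q] LocalizedModule q.primeCompl F :=
    IsLocalizedModule.mapEquiv q.primeCompl (LocalizedModule.mkLinearMap q.primeCompl _)
      (LocalizedModule.mkLinearMap q.primeCompl F) (Localization.AtPrime q) (AlgebraTensorModule.rid A B F)
  let P := q.comap (algebraMap A B)
  haveI : Nontrivial (LocalizedModule P.primeCompl A) :=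
    (IsLocalizedModule.iso P.primeCompl (Algebra.linearMap A (Localization.AtPrime P))).toEquiv.nontrivial
  have h0 : LocCoh.depth (Localization.AtPrime P) (LocalizedModule P.primeCompl A) = 0 := by
    have h1 := DepthLib.depth_le_supportDim (R := Localization.AtPrime P) (M := LocalizedModule P.primeCompl A)
    rw [(self_invariants P).2] at h1
    have h2 : ringKrullDim (Localization.AtPrime P) = 0 :=
      le_antisymm (by simpa using Ring.krullDimLE_iff.1 (inferInstance : Ring.KrullDimLE 0 (Localization.AtPrime P))) ringKrullDim_nonneg_of_nontrivial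
    rw [h2, ← WithBot.coe_zero, WithBot.coe_le_coe] at h1
    exact nonpos_iff_eq_zero.1 h1
  rw [show LocCoh.depth (Localization.AtPrime q) (LocalizedModule q.primeCompl F) =
      LocCoh.depth (Localization.AtPrime q) (LocalizedModule q.primeCompl (F ⊗[A] A)) from
    (DepthLib.idealDepth_congr e).symm, depth_localized_tensor_of_flatAt F A q hflat, h0, zero_add]

omit [Algebra A B] in
/-- A map invertible off `V(I)` is bijective at `n` when the depths along `I` below `n` suffice. -/
theorem bijective_localized_of_quasiInv {M N : Type u} [AddCommGroup M] [Module B M] [Module.Finite B M]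
    [AddCommGroup N] [Module B N] [Module.Finite B N] (I : Ideal B) (n : Ideal B) [n.IsPrime]
    (hM : ∀ (p : Ideal B) [p.IsPrime], p ≤ n → I ≤ p →
      2 ≤ LocCoh.depth (Localization.AtPrime p) (LocalizedModule p.primeCompl M))
    (hN : ∀ (p : Ideal B) [p.IsPrime], p ≤ n → I ≤ p →
      1 ≤ LocCoh.depth (Localization.AtPrime p) (LocalizedModule p.primeCompl N))
    (f : M →ₗ[B] N) (h : ∀ p : PrimeSpectrum B, ¬ I ≤ p.asIdeal → ∃ s ∉ p.asIdeal, ∃ r, IsQuasiInv s f r) :
    Function.Bijective (LocalizedModule.map n.primeCompl f) := by
  let L := Localization.AtPrime n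
  have hle : ∀ P : PrimeSpectrum L, P.asIdeal.comap (algebraMap B L) ≤ n := fun P a ha => by
    by_contra han
    exact P.2.ne_top (Ideal.eq_top_of_isUnit_mem _ ha (IsLocalization.map_units L (⟨a, han⟩ : n.primeCompl)))
  refine bijective_of_quasiInv (I.map (algebraMap B L)) ?_ ?_ _ fun P hP => ?_
  · refine le_trans (le_of_eq (by norm_num)) ((DepthLib.natCast_le_idealDepth_iff_forall_localized 2).2 fun P hP => ?_)
    rw [(invariants_localization_localization (M := M) n.primeCompl P.asIdeal).1]
    exact_mod_cast hM _ (hle P) (Ideal.map_le_iff_le_comap.1 hP)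
  · refine le_trans (le_of_eq (by norm_num)) ((DepthLib.natCast_le_idealDepth_iff_forall_localized 1).2 fun P hP => ?_)
    rw [(invariants_localization_localization (M := N) n.primeCompl P.asIdeal).1]
    exact_mod_cast hN _ (hle P) (Ideal.map_le_iff_le_comap.1 hP)
  · obtain ⟨s, hs, r, hr⟩ := h (PrimeSpectrum.comap (algebraMap B L) P) fun hc => hP (Ideal.map_le_iff_le_comap.2 hc)
    refine ⟨algebraMap B L s, hs, LocalizedModule.map n.primeCompl r, ?_, ?_⟩
    · refine LinearMap.ext fun z => ?_
      induction z using LocalizedModule.induction_on with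
      | h m t =>
        show LocalizedModule.map n.primeCompl r (LocalizedModule.map n.primeCompl f (LocalizedModule.mk m t)) =
          algebraMap B L s • LocalizedModule.mk m t
        rw [LocalizedModule.map_mk, LocalizedModule.map_mk, algebraMap_smul, LocalizedModule.smul'_mk,
          show r (f m) = s • m from LinearMap.congr_fun hr.1 m]
    · refine LinearMap.ext fun z => ?_
      induction z using LocalizedModule.induction_on with
      | h m t =>
        show LocalizedModule.map n.primeCompl f (LocalizedModule.map n.primeCompl r (LocalizedModule.mk m t)) =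
          algebraMap B L s • LocalizedModule.mk m t
        rw [LocalizedModule.map_mk, LocalizedModule.map_mk, algebraMap_smul, LocalizedModule.smul'_mk,
          show f (r m) = s • m from LinearMap.congr_fun hr.2 m]

omit [Algebra A B] in
theorem le_depth_localized_projective (E : Type u) [AddCommGroup E] [Module B E] [Module.Finite B E]
    [Module.Projective B E] (p : Ideal B) [p.IsPrime] (k : ℕ∞)
    (h : k ≤ LocCoh.depth (Localization.AtPrime p) (Localization.AtPrime p)) :
    k ≤ LocCoh.depth (Localization.AtPrime p) (LocalizedModule p.primeCompl E) := by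
  haveI : Module.Free (Localization.AtPrime p) (LocalizedModule p.primeCompl E) :=
    Module.free_of_flat_of_isLocalRing
  rw [LocCoh.depth, DepthLib.idealDepth_congr (Module.finBasis _ _).equivFun]
  exact h.trans (DepthLib.idealDepth_le_pi _ _)

omit [Algebra A B] in
/-- Kernels of maps of projectives have depth two where the ring has. -/
theorem two_le_depth_localized_ker {X Y : Type u} [AddCommGroup X] [Module B X] [Module.Finite B X]
    [Module.Projective B X] [AddCommGroup Y] [Module B Y] [Module.Finite B Y] [Module.Projective B Y]
    (u : X →ₗ[B] Y) (p : Ideal B) [p.IsPrime]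
    (h : 2 ≤ LocCoh.depth (Localization.AtPrime p) (Localization.AtPrime p)) :
    2 ≤ LocCoh.depth (Localization.AtPrime p) (LocalizedModule p.primeCompl (LinearMap.ker u)) := by
  let i := LocalizedModule.map p.primeCompl (LinearMap.ker u).subtype
  let u' := LocalizedModule.map p.primeCompl u
  have hex : Function.Exact i u' := LocalizedModule.map_exact _ _ _ (LinearMap.exact_subtype_ker_map u)
  rw [LocCoh.depth, DepthLib.idealDepth_congr ((LinearEquiv.ofInjective i
    (LocalizedModule.map_injective _ _ (LinearMap.ker u).injective_subtype)).trans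
      (LinearEquiv.ofEq _ _ hex.linearMap_ker_eq.symm))]
  exact DepthLib.two_le_idealDepth_ker _ u' (le_depth_localized_projective X p 2 h)
    (le_depth_localized_projective Y p 1 (le_trans one_le_two h))

omit [Algebra A B] in
/-- Duals have depth two where the ring has. -/
theorem two_le_depth_localized_dual (M : Type u) [AddCommGroup M] [Module B M] [Module.Finite B M]
    (p : Ideal B) [p.IsPrime] (h : 2 ≤ LocCoh.depth (Localization.AtPrime p) (Localization.AtPrime p)) :
    2 ≤ LocCoh.depth (Localization.AtPrime p) (LocalizedModule p.primeCompl (Module.Dual B M)) := by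
  obtain ⟨a, b, u, ⟨e⟩⟩ := DepthLib.exists_linearMap_ker_equiv (A := B) (M := M) (N := B)
  let e' : LocalizedModule p.primeCompl (Module.Dual B M) ≃ₗ[Localization.AtPrime p]
      LocalizedModule p.primeCompl (LinearMap.ker u) :=
    IsLocalizedModule.mapEquiv p.primeCompl (LocalizedModule.mkLinearMap p.primeCompl _)
      (LocalizedModule.mkLinearMap p.primeCompl _) (Localization.AtPrime p) e
  rw [LocCoh.depth, DepthLib.idealDepth_congr (M' := LocalizedModule p.primeCompl (LinearMap.ker u)) e']
  exact two_le_depth_localized_ker u p h

end Groth.Agent.QGor6
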