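import Groth.Agent.Lib.QGor6.QuasiInv
import Mathlib

/-!
# A four term sequence for a reflexive module
-/

set_option autoImplicit false
set_option linter.style.haveILetI false

namespace Groth.Agent.QGor6

universe u

variable {B : Type u} [CommRing B] [IsNoetherianRing B]

/-- A reflexive module is the kernel of a map of free modules; the cokernel is free where it is. -/
theorem exists_fourTerm (F : Type u) [AddCommGroup F] [Module B F] [Module.Finite B F] [Module.IsReflexive B F]
    (J : Ideal B)
    (hFU : ∀ q : PrimeSpectrum B, ¬ J ≤ q.asIdeal → Module.Free (Localization.AtPrime q.asIdeal) (LocalizedModule q.asIdeal.primeCompl F)) :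
    ∃ (n m : ℕ) (f : F →ₗ[B] Module.Dual B (Fin n → B))
      (u : Module.Dual B (Fin n → B) →ₗ[B] Module.Dual B (Fin m → B)),
      Function.Injective f ∧ Function.Exact f u ∧
      ∀ q : PrimeSpectrum B, ¬ J ≤ q.asIdeal → Module.Free (Localization.AtPrime q.asIdeal)
        (LocalizedModule q.asIdeal.primeCompl (Module.Dual B (Fin m → B) ⧸ LinearMap.range u)) := by
  haveI : Module.Finite B (Module.Dual B F) := Module.Finite.equiv (LinearEquiv.refl B _)
  obtain ⟨n, π, hπ⟩ := Module.Finite.exists_fin' B (Module.Dual B F)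
  obtain ⟨m, ρ, hρ⟩ := Module.Finite.exists_fin' B (LinearMap.ker π)
  let π₁ : (Fin m → B) →ₗ[B] (Fin n → B) := (LinearMap.ker π).subtype ∘ₗ ρ
  have hπ₁ : LinearMap.range π₁ = LinearMap.ker π := by
    rw [LinearMap.range_comp, LinearMap.range_eq_top.2 hρ, Submodule.map_top, Submodule.range_subtype]
  let f : F →ₗ[B] Module.Dual B (Fin n → B) := π.dualMap ∘ₗ Module.Dual.eval B F
  let u : Module.Dual B (Fin n → B) →ₗ[B] Module.Dual B (Fin m → B) := π₁.dualMap
  let v : Module.Dual B (Fin m → B) →ₗ[B] Module.Dual B (Fin m → B) ⧸ LinearMap.range u :=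
    (LinearMap.range u).mkQ
  have hf : Function.Injective f :=
    (LinearMap.dualMap_injective_of_surjective hπ).comp (Module.bijective_dual_eval B F).1
  have hfu : Function.Exact f u := by
    rw [LinearMap.exact_iff, LinearMap.range_comp, LinearMap.range_eq_top.2 (Module.bijective_dual_eval B F).2,
      Submodule.map_top, LinearMap.ker_dualMap_eq_dualAnnihilator_range, hπ₁,
      LinearMap.range_dualMap_eq_dualAnnihilator_ker_of_surjective _ hπ]
  have huv : Function.Exact u v := LinearMap.exact_map_mkQ_range u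
  have hv : Function.Surjective v := Submodule.mkQ_surjective _
  have hGU : ∀ q : PrimeSpectrum B, ¬ J ≤ q.asIdeal → Module.Free (Localization.AtPrime q.asIdeal)
      (LocalizedModule q.asIdeal.primeCompl (Module.Dual B (Fin m → B) ⧸ LinearMap.range u)) := by
    intro q hq
    haveI := hFU q hq
    obtain ⟨s, hs, k, a, b, hab⟩ := exists_retract_of_free (M := F) q.asIdeal
    obtain ⟨c, hc⟩ := Module.projective_lifting_property π a.dualMap hπ
    let σ : Module.Dual B F →ₗ[B] (Fin n → B) := c ∘ₗ b.dualMap
    have hσ : π ∘ₗ σ = s • LinearMap.id := by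
      rw [← LinearMap.comp_assoc, hc]
      refine LinearMap.ext fun ψ => LinearMap.ext fun x => ?_
      simpa using congrArg ψ (LinearMap.congr_fun hab x)
    let τ : (Fin n → B) →ₗ[B] LinearMap.ker π :=
      (s • LinearMap.id - σ ∘ₗ π).codRestrict _ fun x => by
        simp [show π (σ (π x)) = s • π x from LinearMap.congr_fun hσ (π x)]
    obtain ⟨w, hw⟩ := Module.projective_lifting_property ρ τ hρ
    have hwu : ∀ ψ, u (w.dualMap (u ψ)) = s • u ψ := fun ψ => LinearMap.ext fun x => by
      show ψ (π₁ (w (π₁ x))) = s * ψ (π₁ x)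
      have h1 : π₁ (w (π₁ x)) = s • π₁ x - σ (π (π₁ x)) := congrArg Subtype.val (LinearMap.congr_fun hw (π₁ x))
      rw [h1, show π (π₁ x) = 0 from (ρ x).2, map_zero, sub_zero, map_smul, smul_eq_mul]
    let η := (LinearMap.range u).liftQ (s • LinearMap.id - u ∘ₗ w.dualMap) (by
      rintro _ ⟨ψ, rfl⟩
      simp [hwu])
    have hη : v ∘ₗ η = s • LinearMap.id := by
      refine Submodule.linearMap_qext _ (LinearMap.ext fun φ => ?_)
      show v (s • φ - u (w.dualMap φ)) = s • v φ
      rw [map_sub, map_smul, (huv _).2 ⟨_, rfl⟩, sub_zero]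
    haveI := projective_localized_of_retract q.asIdeal hs η v hη
    exact Module.free_of_flat_of_isLocalRing
  exact ⟨n, m, f, u, hf, hfu, hGU⟩

end Groth.Agent.QGor6
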