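import Groth.Agent.Lib.QGor6.FourTermBC
import Groth.Agent.Lib.QGor6.LocalFour
import Groth.Agent.Lib.QGor6.Presentation
import Groth.Agent.Lib.FlatH4.LocCrit
import Groth.Agent.Lib.FibDepth5.Bridge
import Mathlib

/-!
# Flatness of the cokernel from reflexive hulls over Artinian bases
-/

set_option autoImplicit false
set_option linter.style.haveILetI false
set_option backward.isDefEq.respectTransparency false
set_option backward.isDefEq.respectTransparency.types false

namespace Groth.Agent.QGor6

universe u

open TensorProduct IsLocalRing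

/-- At a free point of the cokernel, the kernel of a map of projectives splits off up to a scalar. -/
theorem exists_split_four {B : Type u} [CommRing B] [IsNoetherianRing B] {F E0 E1 G : Type u}
    [AddCommGroup F] [Module B F] [AddCommGroup E0] [Module B E0] [AddCommGroup E1] [Module B E1]
    [Module.Projective B E1] [AddCommGroup G] [Module B G] [Module.Finite B G]
    (f : F →ₗ[B] E0) (u : E0 →ₗ[B] E1) (v : E1 →ₗ[B] G) (hf : Function.Injective f) (hfu : Function.Exact f u)
    (huv : Function.Exact u v) (hv : Function.Surjective v) (q : Ideal B) [q.IsPrime]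
    [Module.Free (Localization.AtPrime q) (LocalizedModule q.primeCompl G)] :
    ∃ s ∉ q, ∃ (r : E0 →ₗ[B] F) (w : E1 →ₗ[B] E0),
      r ∘ₗ f = s • LinearMap.id ∧ f ∘ₗ r + w ∘ₗ u = s • LinearMap.id := by
  obtain ⟨s, hs, k, a, b, hab⟩ := exists_retract_of_free (M := G) q
  obtain ⟨c, hc⟩ := Module.projective_lifting_property v b hv
  let η : G →ₗ[B] E1 := c ∘ₗ a
  have hη : ∀ x, v (η x) = s • x := fun x => by
    show v (c (a x)) = _
    rw [show v (c (a x)) = b (a x) from LinearMap.congr_fun hc (a x)]
    exact LinearMap.congr_fun hab x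
  let τ : E1 →ₗ[B] LinearMap.range u := (s • LinearMap.id - η ∘ₗ v).codRestrict _ fun x =>
    (huv _).1 (by simp [hη])
  obtain ⟨w, hw⟩ := Module.projective_lifting_property u.rangeRestrict τ u.surjective_rangeRestrict
  have hw' : ∀ y, u (w y) = s • y - η (v y) := fun y => congrArg Subtype.val (LinearMap.congr_fun hw y)
  let r : E0 →ₗ[B] F := (LinearEquiv.ofInjective f hf).symm.toLinearMap ∘ₗ
    (s • LinearMap.id - w ∘ₗ u).codRestrict (LinearMap.range f) fun x => (hfu _).1 (by
      simp [hw', (huv (u x)).2 ⟨x, rfl⟩])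
  have hfr : ∀ x, f (r x) = s • x - w (u x) := fun x =>
    congrArg Subtype.val ((LinearEquiv.ofInjective f hf).apply_symm_apply _)
  refine ⟨s, hs, r, w, LinearMap.ext fun x => hf ?_, LinearMap.ext fun x => ?_⟩
  · show f (r (f x)) = f (s • x)
    rw [hfr, (hfu (f x)).2 ⟨x, rfl⟩, map_zero, sub_zero, map_smul]
  · show f (r x) + w (u x) = s • x
    rw [hfr, sub_add_cancel]

/-- The fibre stalks of a module free at the point are as deep as those of the ring. -/
theorem fibre_depth_free {A B : Type u} [CommRing A] [CommRing B] [Algebra A B] [IsNoetherianRing B]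
    (E : Type u) [AddCommGroup E] [Module B E] [Module.Finite B E] (q : Ideal B) [q.IsPrime]
    [Module.Free (Localization.AtPrime q) (LocalizedModule q.primeCompl E)] :
    LocCoh.depth (EGA4.FibLocRing A B q) (EGA4.FibLocRing A B q) ≤
      LocCoh.depth (EGA4.FibLocRing A B q) (EGA4.FibLocMod A B q E) := by
  have hs : Function.Surjective (algebraMap (Localization.AtPrime q) (EGA4.FibLocRing A B q)) :=
    Ideal.Quotient.mk_surjective
  rw [← FlatDepth.depth_eq_of_surjective _ hs, ← FlatDepth.depth_eq_of_surjective _ hs]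
  let I := (q.comap (algebraMap A B)).map (algebraMap A (Localization.AtPrime q))
  let e : EGA4.FibLocMod A B q E ≃ₗ[Localization.AtPrime q] (Fin _ → EGA4.FibLocRing A B q) :=
    (TensorProduct.quotTensorEquivQuotSMul (LocalizedModule q.primeCompl E) I).symm.trans
      ((LinearEquiv.lTensor (Localization.AtPrime q ⧸ I) (Module.finBasis (Localization.AtPrime q)
        (LocalizedModule q.primeCompl E)).equivFun).trans
        (TensorProduct.piScalarRight (Localization.AtPrime q) (Localization.AtPrime q)
          (Localization.AtPrime q ⧸ I) (Fin _)))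
  rw [LocCoh.depth, LocCoh.depth, DepthLib.idealDepth_congr e]
  exact DepthLib.idealDepth_le_pi _ _

section core

variable {A' B' : Type u} [CommRing A'] [IsArtinianRing A'] [IsLocalRing A'] [CommRing B'] [IsNoetherianRing B']
  [Algebra A' B'] [Module.Flat A' B']

theorem flatAt_coker_core (J' : Ideal B') (q' : Ideal B') [q'.IsPrime]
    (hfib : ∀ (p : Ideal B') [p.IsPrime], p ≤ q' → J' ≤ p →
      2 ≤ LocCoh.depth (EGA4.FibLocRing A' B' p) (EGA4.FibLocRing A' B' p))
    {F E0 E1 G : Type u} [AddCommGroup F] [Module B' F] [Module.Finite B' F]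
    [AddCommGroup E0] [Module B' E0] [Module A' E0] [IsScalarTower A' B' E0] [Module.Finite B' E0]
    [Module.Projective B' E0]
    [AddCommGroup E1] [Module B' E1] [Module A' E1] [IsScalarTower A' B' E1] [Module.Finite B' E1]
    [Module.Projective B' E1]
    [AddCommGroup G] [Module B' G] [Module A' G] [IsScalarTower A' B' G] [Module.Finite B' G]
    (f' : F →ₗ[B'] E0) (u' : E0 →ₗ[B'] E1) (v' : E1 →ₗ[B'] G) (hfu' : u' ∘ₗ f' = 0)
    (huv' : Function.Exact u' v') (hv' : Function.Surjective v')
    (hsplit : ∀ p : PrimeSpectrum B', ¬ J' ≤ p.asIdeal → ∃ s ∉ p.asIdeal, ∃ (r : E0 →ₗ[B'] F) (w : E1 →ₗ[B'] E0),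
      r ∘ₗ f' = s • LinearMap.id ∧ f' ∘ₗ r + w ∘ₗ u' = s • LinearMap.id)
    (hGU : ∀ p : PrimeSpectrum B', ¬ J' ≤ p.asIdeal → Module.Free (Localization.AtPrime p.asIdeal) (LocalizedModule p.asIdeal.primeCompl G))
    (hflat : Module.Flat A' (LocalizedModule q'.primeCompl (Module.Dual B' (Module.Dual B' F)))) :
    FlatCA.FlatAt A' q' G := by
  have hdepth : ∀ (p : Ideal B') [p.IsPrime], p ≤ q' → J' ≤ p →
      2 ≤ LocCoh.depth (Localization.AtPrime p) (Localization.AtPrime p) := fun p _ hle hJ => by
    rw [(FlatDepth.ring_invariants (A := A') p).1]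
    exact le_trans (hfib p hle hJ) le_add_self
  let i : LinearMap.ker u' →ₗ[B'] E0 := (LinearMap.ker u').subtype
  let φ : F →ₗ[B'] LinearMap.ker u' := f'.codRestrict _ fun x => by
    rw [LinearMap.mem_ker, ← LinearMap.comp_apply, hfu', LinearMap.zero_apply]
  let d := φ.dualMap.dualMap
  let ev := Module.Dual.eval B' (LinearMap.ker u')
  haveI : Module.Finite B' (Module.Dual B' F) := Module.Finite.equiv (LinearEquiv.refl B' _)
  haveI : Module.Finite B' (Module.Dual B' (Module.Dual B' F)) := Module.Finite.equiv (LinearEquiv.refl B' _)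
  haveI : Module.Finite B' (Module.Dual B' (LinearMap.ker u')) := Module.Finite.equiv (LinearEquiv.refl B' _)
  haveI : Module.Finite B' (Module.Dual B' (Module.Dual B' (LinearMap.ker u'))) :=
    Module.Finite.equiv (LinearEquiv.refl B' _)
  have hφ : ∀ p : PrimeSpectrum B', ¬ J' ≤ p.asIdeal → ∃ s ∉ p.asIdeal, ∃ r, IsQuasiInv s φ r := fun p hp => by
    obtain ⟨s, hs, r, w, hrf, hfr⟩ := hsplit p hp
    refine ⟨s, hs, r ∘ₗ i, LinearMap.ext fun x => LinearMap.congr_fun hrf x, LinearMap.ext fun z => Subtype.ext ?_⟩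
    have h1 := LinearMap.congr_fun hfr z.1
    simp only [LinearMap.add_apply, LinearMap.comp_apply, LinearMap.mem_ker.1 z.2, map_zero, add_zero] at h1
    exact h1
  have hev : ∀ p : PrimeSpectrum B', ¬ J' ≤ p.asIdeal → ∃ s ∉ p.asIdeal, ∃ r, IsQuasiInv s ev r := fun p hp => by
    haveI := hGU p hp
    haveI := free_localized_left i u' v'
      (LinearMap.ker u').injective_subtype (LinearMap.exact_subtype_ker_map _) huv' hv' p.asIdeal
    obtain ⟨hk, hc⟩ := DepthLib.eval_locally_bijective (G := LinearMap.ker u') p.asIdeal.primeCompl inferInstance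
    exact exists_quasiInv p.asIdeal.primeCompl ev hk hc
  have hK : ∀ (p : Ideal B') [p.IsPrime], p ≤ q' → J' ≤ p → 2 ≤ LocCoh.depth (Localization.AtPrime p)
      (LocalizedModule p.primeCompl (LinearMap.ker u')) :=
    fun p _ hle hJ => two_le_depth_localized_ker _ p (hdepth p hle hJ)
  have hbev := bijective_localized_of_quasiInv J' q' hK
    (fun p _ hle hJ => le_trans one_le_two (two_le_depth_localized_dual _ p (hdepth p hle hJ))) ev hev
  have hbd := bijective_localized_of_quasiInv J' q'
    (fun p _ hle hJ => two_le_depth_localized_dual (Module.Dual B' F) p (hdepth p hle hJ))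
    (fun p _ hle hJ => le_trans one_le_two
      (two_le_depth_localized_dual (Module.Dual B' (LinearMap.ker u')) p (hdepth p hle hJ)))
    d fun p hp => by
      obtain ⟨s, hs, r, hr⟩ := hφ p hp
      exact ⟨s, hs, r.dualMap.dualMap, hr.dualMap.dualMap⟩
  haveI hKflat : Module.Flat A' (LocalizedModule q'.primeCompl (LinearMap.ker u')) := by
    haveI : Module.Flat A' (LocalizedModule q'.primeCompl (Module.Dual B' (Module.Dual B' F))) := hflat
    exact Module.Flat.of_linearEquiv
      (((LinearEquiv.ofBijective _ hbev).trans (LinearEquiv.ofBijective _ hbd).symm).restrictScalars A')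
  have hgen : ∀ (p : Ideal B') [p.IsPrime], p ≤ q' → FlatCA.FlatAt A' p (LinearMap.ker u') := by
    intro p _ hle
    have hsub : ∀ t, t ∈ q'.primeCompl → t ∈ p.primeCompl := fun t ht htp => ht (hle htp)
    let m := LocalizedModule.mkLinearMap q'.primeCompl (LinearMap.ker u')
    have hb : Function.Bijective (IsLocalizedModule.map p.primeCompl (LocalizedModule.mkLinearMap p.primeCompl _)
        (LocalizedModule.mkLinearMap p.primeCompl _) m) := by
      constructor
      · refine (injective_iff_map_eq_zero _).2 fun z hz => ?_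
        obtain ⟨⟨a, t⟩, rfl⟩ := IsLocalizedModule.mk'_surjective p.primeCompl (LocalizedModule.mkLinearMap p.primeCompl _) z
        simp only [Function.uncurry_apply_pair, IsLocalizedModule.map_mk'] at hz
        obtain ⟨c, hc⟩ := (IsLocalizedModule.mk'_eq_zero' _ t).1 hz
        rw [Submonoid.smul_def, ← map_smul] at hc
        obtain ⟨c', hc'⟩ := (IsLocalizedModule.eq_zero_iff q'.primeCompl m).1 hc
        refine (IsLocalizedModule.mk'_eq_zero' _ t).2 ⟨⟨c', hsub _ c'.2⟩ * c, ?_⟩
        rw [Submonoid.smul_def, Submonoid.coe_mul, mul_smul]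
        exact hc'
      · intro z
        obtain ⟨⟨y, t⟩, rfl⟩ := IsLocalizedModule.mk'_surjective p.primeCompl (LocalizedModule.mkLinearMap p.primeCompl _) z
        obtain ⟨⟨a, c⟩, hc⟩ := IsLocalizedModule.surj q'.primeCompl m y
        refine ⟨IsLocalizedModule.mk' (LocalizedModule.mkLinearMap p.primeCompl _) a (⟨c, hsub _ c.2⟩ * t), ?_⟩
        simp only [Function.uncurry_apply_pair, IsLocalizedModule.map_mk']
        rw [← hc]
        exact IsLocalizedModule.mk'_cancel_left _ _ (⟨c, hsub _ c.2⟩ : p.primeCompl) t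
    haveI := FlatDepth.flat_localizedModule_of_flat (A := A') (B := B')
      (LocalizedModule q'.primeCompl (LinearMap.ker u')) p.primeCompl
    exact Module.Flat.of_linearEquiv ((LinearEquiv.ofBijective _ hb).restrictScalars A')
  haveI : Module.Flat A' (E0) := Module.Flat.trans A' B' _
  haveI : Module.Flat A' (E1) := Module.Flat.trans A' B' _
  refine (fourTerm_at' (A := A') (B := B') J' q' (F := LinearMap.ker u') (E0 := E0)
    (E1 := E1) (G := G) i u' v'
    (LinearMap.ker u').injective_subtype (LinearMap.exact_subtype_ker_map _) huv' hv'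
    (fun p hp => ?_) (fun p _ hle hJ _ => fibre_depth_projective _ p 2 ?_)
    (fun p _ hle hJ _ => fibre_depth_projective _ p 1 ?_)).1.2 fun p _ hle hJ _ => ?_
  · haveI := hGU p hp
    haveI : Module.Flat A' (Localization.AtPrime p.asIdeal) := Module.Flat.trans A' B' _
    exact Module.Flat.trans A' (Localization.AtPrime p.asIdeal) _
  · rw [FlatDepth.map_fibLocRing_eq_maximalIdeal]
    exact hfib p hle hJ
  · rw [FlatDepth.map_fibLocRing_eq_maximalIdeal]
    exact le_trans one_le_two (hfib p hle hJ)
  · rw [FlatDepth.map_fibLocRing_eq_maximalIdeal]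
    exact (hK p hle hJ).trans_eq (depth_fibre_of_flatAt_artinian _ p (hgen p hle))


end core

variable {A B A' B' : Type u} [CommRing A] [CommRing B] [IsNoetherianRing B] [Algebra A B] [Module.Flat A B]
  [CommRing A'] [IsArtinianRing A'] [IsLocalRing A'] [CommRing B'] [IsNoetherianRing B'] [Algebra A A']
  [Algebra B B'] [Algebra A' B'] [Algebra A B'] [IsScalarTower A B B'] [IsScalarTower A A' B']
  [Algebra.IsPushout A B A' B']

variable (A') in
/-- If the reflexive hull of the base change of `F` is flat, so is the base change of the cokernel. -/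
theorem flatAt_coker_of_flatAt_ddual (J : Ideal B) (n : Ideal B) [n.IsPrime] (q' : Ideal B') [q'.IsPrime]
    (hq' : q'.comap (algebraMap B B') = n)
    (hd : ∀ (q : Ideal B) [q.IsPrime], q ≤ n → J ≤ q → q.comap (algebraMap A B) = n.comap (algebraMap A B) →
      2 ≤ LocCoh.depth (EGA4.FibLocRing A B q) (EGA4.FibLocRing A B q))
    {F E0 E1 G : Type u} [AddCommGroup F] [Module B F] [Module.Finite B F]
    [AddCommGroup E0] [Module B E0] [Module.Finite B E0] [Module.Projective B E0]
    [AddCommGroup E1] [Module B E1] [Module.Finite B E1] [Module.Projective B E1]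
    [AddCommGroup G] [Module B G] [Module.Finite B G]
    (f : F →ₗ[B] E0) (u : E0 →ₗ[B] E1) (v : E1 →ₗ[B] G)
    (hf : Function.Injective f) (hfu : Function.Exact f u) (huv : Function.Exact u v) (hv : Function.Surjective v)
    (hGU : ∀ q : PrimeSpectrum B, ¬ J ≤ q.asIdeal → Module.Free (Localization.AtPrime q.asIdeal) (LocalizedModule q.asIdeal.primeCompl G))
    (hflat : FlatCA.FlatAt A' q' (Module.Dual B' (Module.Dual B' (B' ⊗[B] F)))) :
    FlatCA.FlatAt A' q' (B' ⊗[B] G) := by
  haveI : Module.Flat A' B' := flat_baseChange_ring (A := A) (B := B)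
  let J' := J.map (algebraMap B B')
  obtain ⟨huv', hv'⟩ := baseChange_exact (B' := B') huv hv
  have hP : ∀ (p : Ideal B') [p.IsPrime], p.comap (algebraMap A' B') = q'.comap (algebraMap A' B') := fun p _ =>
    ((IsLocalRing.eq_maximalIdeal inferInstance).trans (IsLocalRing.eq_maximalIdeal inferInstance).symm)
  have hfib : ∀ (p : Ideal B') [p.IsPrime], p ≤ q' → J' ≤ p →
      2 ≤ LocCoh.depth (EGA4.FibLocRing A' B' p) (EGA4.FibLocRing A' B' p) := fun p _ hle hJ => by
    refine le_trans (hd _ ?_ (Ideal.map_le_iff_le_comap.1 hJ) ?_) (depth_fibLocRing_le_baseChange p _ rfl)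
    · rw [← hq']; exact Ideal.comap_mono hle
    · rw [← hq', Ideal.comap_comap, Ideal.comap_comap, ← IsScalarTower.algebraMap_eq,
        IsScalarTower.algebraMap_eq A A' B', ← Ideal.comap_comap, ← Ideal.comap_comap, hP p]
  refine flatAt_coker_core J' q' hfib (f.baseChange B') (u.baseChange B') (v.baseChange B') ?_ huv' hv' (fun p hp => ?_)
    (fun p hp => free_localized_baseChange G J hGU p hp) hflat
  · rw [← LinearMap.baseChange_comp, hfu.linearMap_comp_eq_zero, LinearMap.baseChange_zero]
  · haveI := hGU (PrimeSpectrum.comap (algebraMap B B') p) fun h => hp (Ideal.map_le_iff_le_comap.2 h)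
    obtain ⟨s, hs, r, w, hrf, hfr⟩ := exists_split_four f u v hf hfu huv hv (PrimeSpectrum.comap (algebraMap B B') p).asIdeal
    refine ⟨algebraMap B B' s, hs, r.baseChange B', w.baseChange B', ?_, ?_⟩
    · rw [← LinearMap.baseChange_comp, hrf, LinearMap.baseChange_smul, LinearMap.baseChange_id, algebraMap_smul]
    · rw [← LinearMap.baseChange_comp, ← LinearMap.baseChange_comp, ← LinearMap.baseChange_add, hfr,
        LinearMap.baseChange_smul, LinearMap.baseChange_id, algebraMap_smul]

end Groth.Agent.QGor6
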