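import Groth.Agent.Lib.QGor6.S2Crit
import Groth.Agent.Lib.Depth.HomDepth
import Mathlib

/-!
# The double dual of a base change as a kernel; the cokernel criterion after base change
-/

set_option autoImplicit false
set_option linter.style.haveILetI false
set_option backward.isDefEq.respectTransparency false
set_option backward.isDefEq.respectTransparency.types false

namespace Groth.Agent.QGor6

universe u

open TensorProduct IsLocalRing

section core

variable {R : Type u} [CommRing R] [IsNoetherianRing R]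

/-- With depth two along `J`, the double dual of `F` is the kernel, if `F` is that kernel off `V(J)`. -/
theorem nonempty_ddual_equiv_ker (J : Ideal R) (hR : 2 ≤ LocCoh.idealDepth J R)
    {F E0 E1 G : Type u} [AddCommGroup F] [Module R F] [Module.Finite R F]
    [AddCommGroup E0] [Module R E0] [Module.Finite R E0] [Module.Projective R E0]
    [AddCommGroup E1] [Module R E1] [Module.Finite R E1] [Module.Projective R E1]
    [AddCommGroup G] [Module R G] [Module.Finite R G]
    (f : F →ₗ[R] E0) (u : E0 →ₗ[R] E1) (v : E1 →ₗ[R] G) (hfu : u ∘ₗ f = 0)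
    (huv : Function.Exact u v) (hv : Function.Surjective v)
    (hsplit : ∀ p : PrimeSpectrum R, ¬ J ≤ p.asIdeal → ∃ s ∉ p.asIdeal, ∃ (r : E0 →ₗ[R] F) (w : E1 →ₗ[R] E0),
      r ∘ₗ f = s • LinearMap.id ∧ f ∘ₗ r + w ∘ₗ u = s • LinearMap.id)
    (hGU : ∀ p : PrimeSpectrum R, ¬ J ≤ p.asIdeal → Module.Free (Localization.AtPrime p.asIdeal) (LocalizedModule p.asIdeal.primeCompl G)) :
    Nonempty (Module.Dual R (Module.Dual R F) ≃ₗ[R] LinearMap.ker u) := by
  let φ : F →ₗ[R] LinearMap.ker u := f.codRestrict _ fun x => by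
    rw [LinearMap.mem_ker, ← LinearMap.comp_apply, hfu, LinearMap.zero_apply]
  haveI : Module.Finite R (Module.Dual R F) := Module.Finite.equiv (LinearEquiv.refl R _)
  haveI : Module.Finite R (Module.Dual R (Module.Dual R F)) := Module.Finite.equiv (LinearEquiv.refl R _)
  haveI : Module.Finite R (Module.Dual R (LinearMap.ker u)) := Module.Finite.equiv (LinearEquiv.refl R _)
  haveI : Module.Finite R (Module.Dual R (Module.Dual R (LinearMap.ker u))) := Module.Finite.equiv (LinearEquiv.refl R _)
  have hφ : ∀ p : PrimeSpectrum R, ¬ J ≤ p.asIdeal → ∃ s ∉ p.asIdeal, ∃ r, IsQuasiInv s φ r := fun p hp => by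
    obtain ⟨s, hs, r, w, hrf, hfr⟩ := hsplit p hp
    refine ⟨s, hs, r ∘ₗ (LinearMap.ker u).subtype, LinearMap.ext fun x => LinearMap.congr_fun hrf x,
      LinearMap.ext fun z => Subtype.ext ?_⟩
    have h1 := LinearMap.congr_fun hfr z.1
    simp only [LinearMap.add_apply, LinearMap.comp_apply, LinearMap.mem_ker.1 z.2, map_zero, add_zero] at h1
    exact h1
  haveI : Module.IsReflexive R (LinearMap.ker u) := ker_reflexive u v J hR huv hv hGU
  have hd : Function.Bijective φ.dualMap.dualMap :=
    bijective_of_quasiInv J (DepthLib.two_le_idealDepth_linearMap J hR)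
      (DepthLib.one_le_idealDepth_linearMap J (le_trans one_le_two hR)) _ fun p hp => by
        obtain ⟨s, hs, r, hr⟩ := hφ p hp
        exact ⟨s, hs, r.dualMap.dualMap, hr.dualMap.dualMap⟩
  exact ⟨(LinearEquiv.ofBijective _ hd).trans (Module.evalEquiv R (LinearMap.ker u)).symm⟩

variable {S : Type u} [CommRing S] [IsNoetherianRing S] [Algebra R S] [Module.Flat R S]

/-- The criterion for the double dual. -/
theorem relS2_ddual_iff_flatAt (J : Ideal S)
    (hd : ∀ (p : Ideal S) [p.IsPrime], J ≤ p → 2 ≤ LocCoh.depth (EGA4.FibLocRing R S p) (EGA4.FibLocRing R S p))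
    (q : Ideal S) [q.IsPrime]
    (hsk : ∀ (p : Ideal S) [p.IsPrime], p ≤ q → p.comap (algebraMap R S) = q.comap (algebraMap R S) →
      FlatDepth.SkIneq 2 (EGA4.FibLocRing R S p))
    {F E0 E1 G : Type u} [AddCommGroup F] [Module S F] [Module.Finite S F]
    [AddCommGroup E0] [Module S E0] [Module R E0] [IsScalarTower R S E0] [Module.Finite S E0] [Module.Projective S E0]
    [AddCommGroup E1] [Module S E1] [Module R E1] [IsScalarTower R S E1] [Module.Finite S E1] [Module.Projective S E1]
    [AddCommGroup G] [Module S G] [Module R G] [IsScalarTower R S G] [Module.Finite S G]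
    (f : F →ₗ[S] E0) (u : E0 →ₗ[S] E1) (v : E1 →ₗ[S] G) (hfu : u ∘ₗ f = 0)
    (huv : Function.Exact u v) (hv : Function.Surjective v)
    (hsplit : ∀ p : PrimeSpectrum S, ¬ J ≤ p.asIdeal → ∃ s ∉ p.asIdeal, ∃ (r : E0 →ₗ[S] F) (w : E1 →ₗ[S] E0),
      r ∘ₗ f = s • LinearMap.id ∧ f ∘ₗ r + w ∘ₗ u = s • LinearMap.id)
    (hGU : ∀ p : PrimeSpectrum S, ¬ J ≤ p.asIdeal → Module.Free (Localization.AtPrime p.asIdeal) (LocalizedModule p.asIdeal.primeCompl G)) :
    (FlatCA.FlatAt R q (Module.Dual S (Module.Dual S F)) ∧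
      LocCoh.HasSk 2 (EGA4.FibLocRing R S q) (EGA4.FibLocMod R S q (Module.Dual S (Module.Dual S F)))) ↔
      FlatCA.FlatAt R q G := by
  have hS2 : 2 ≤ LocCoh.idealDepth J S := FlatDepth.le_idealDepth_self_of_fibres (A := R) J 2 fun p hp => by
    rw [FlatDepth.map_fibLocRing_eq_maximalIdeal]; exact_mod_cast hd p.asIdeal hp
  obtain ⟨θ⟩ := nonempty_ddual_equiv_ker J hS2 f u v hfu huv hv hsplit hGU
  haveI : Module.Finite S (Module.Dual S F) := Module.Finite.equiv (LinearEquiv.refl S _)
  haveI : Module.Finite S (Module.Dual S (Module.Dual S F)) := Module.Finite.equiv (LinearEquiv.refl S _)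
  let i : Module.Dual S (Module.Dual S F) →ₗ[S] E0 := (LinearMap.ker u).subtype ∘ₗ θ.toLinearMap
  refine relS2_ker_iff_flatAt J hd q hsk i u v ((LinearMap.ker u).injective_subtype.comp θ.injective) (fun x => ?_)
    huv hv hGU
  constructor
  · intro hx
    exact ⟨θ.symm ⟨x, hx⟩, by simp [i]⟩
  · rintro ⟨y, rfl⟩
    exact (θ y).2

end core

variable {A B A' B' : Type u} [CommRing A] [CommRing B] [IsNoetherianRing A] [IsNoetherianRing B] [Algebra A B]
  [Module.Flat A B]
  [CommRing A'] [CommRing B'] [IsNoetherianRing A'] [IsNoetherianRing B'] [Algebra A A'] [Algebra B B'] [Algebra A' B']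
  [Algebra A B'] [IsScalarTower A B B'] [IsScalarTower A A' B'] [Algebra.IsPushout A B A' B']

variable (A') in
/-- Relative `(S₂)` of the double dual of a base change is flatness of the base change of the cokernel. -/
theorem relS2_ddual_baseChange_iff (J : Ideal B)
    (hd : ∀ (p : Ideal B) [p.IsPrime], J ≤ p → 2 ≤ LocCoh.depth (EGA4.FibLocRing A B p) (EGA4.FibLocRing A B p))
    (hsk : ∀ (p : Ideal B) [p.IsPrime], FlatDepth.SkIneq 2 (EGA4.FibLocRing A B p))
    {F E0 E1 G : Type u} [AddCommGroup F] [Module B F] [Module.Finite B F]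
    [AddCommGroup E0] [Module B E0] [Module.Finite B E0] [Module.Projective B E0]
    [AddCommGroup E1] [Module B E1] [Module.Finite B E1] [Module.Projective B E1]
    [AddCommGroup G] [Module B G] [Module.Finite B G]
    (f : F →ₗ[B] E0) (u : E0 →ₗ[B] E1) (v : E1 →ₗ[B] G)
    (hf : Function.Injective f) (hfu : Function.Exact f u) (huv : Function.Exact u v) (hv : Function.Surjective v)
    (hGU : ∀ q : PrimeSpectrum B, ¬ J ≤ q.asIdeal → Module.Free (Localization.AtPrime q.asIdeal) (LocalizedModule q.asIdeal.primeCompl G))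
    (q' : Ideal B') [q'.IsPrime] :
    (FlatCA.FlatAt A' q' (Module.Dual B' (Module.Dual B' (B' ⊗[B] F))) ∧
      LocCoh.HasSk 2 (EGA4.FibLocRing A' B' q') (EGA4.FibLocMod A' B' q' (Module.Dual B' (Module.Dual B' (B' ⊗[B] F))))) ↔
      FlatCA.FlatAt A' q' (B' ⊗[B] G) := by
  haveI : Module.Flat A' B' := flat_baseChange_ring (A := A) (B := B)
  obtain ⟨huv', hv'⟩ := baseChange_exact (B' := B') huv hv
  refine relS2_ddual_iff_flatAt (J.map (algebraMap B B'))
    (fun p _ hp => le_trans (hd _ (Ideal.map_le_iff_le_comap.1 hp)) (depth_fibLocRing_le_baseChange p _ rfl))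
    q' (fun p _ _ _ => skIneq_fibLocRing_baseChange 2 p _ rfl (hsk _))
    (f.baseChange B') (u.baseChange B') (v.baseChange B') ?_ huv' hv' (fun p hp => ?_)
    (fun p hp => free_localized_baseChange G J hGU p hp)
  · rw [← LinearMap.baseChange_comp, hfu.linearMap_comp_eq_zero, LinearMap.baseChange_zero]
  · haveI := hGU (PrimeSpectrum.comap (algebraMap B B') p) fun h => hp (Ideal.map_le_iff_le_comap.2 h)
    obtain ⟨s, hs, r, w, hrf, hfr⟩ := exists_split_four f u v hf hfu huv hv (PrimeSpectrum.comap (algebraMap B B') p).asIdeal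
    refine ⟨algebraMap B B' s, hs, r.baseChange B', w.baseChange B', ?_, ?_⟩
    · rw [← LinearMap.baseChange_comp, hrf, LinearMap.baseChange_smul, LinearMap.baseChange_id, algebraMap_smul]
    · rw [← LinearMap.baseChange_comp, ← LinearMap.baseChange_comp, ← LinearMap.baseChange_add, hfr,
        LinearMap.baseChange_smul, LinearMap.baseChange_id, algebraMap_smul]

end Groth.Agent.QGor6
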