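import Groth.Agent.Lib.QGor6.FibreDepth
import Groth.Agent.Lib.QGor6.QuasiInv
import Groth.Agent.Lib.FlatDepth.Coker
import Groth.Agent.S18700
import Groth.Agent.S18702
import Groth.Agent.S18703
import Mathlib

/-!
# Four term sequences and base change
-/

set_option autoImplicit false
set_option linter.style.haveILetI false

namespace Groth.Agent.QGor6

universe u

open TensorProduct

section free

variable {B : Type u} [CommRing B] [IsNoetherianRing B]
  {F E0 E1 G : Type u} [AddCommGroup F] [Module B F] [Module.Finite B F]
  [AddCommGroup E0] [Module B E0] [Module.Finite B E0] [Module.Projective B E0]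
  [AddCommGroup E1] [Module B E1] [Module.Finite B E1] [Module.Projective B E1]
  [AddCommGroup G] [Module B G] [Module.Finite B G]
  (f : F →ₗ[B] E0) (u : E0 →ₗ[B] E1) (v : E1 →ₗ[B] G)

/-- In a four term sequence with projective middle terms, `F` is free where `G` is. -/
theorem free_localized_left (hf : Function.Injective f) (hfu : Function.Exact f u) (huv : Function.Exact u v)
    (hv : Function.Surjective v) (q : Ideal B) [q.IsPrime]
    [Module.Free (Localization.AtPrime q) (LocalizedModule q.primeCompl G)] :
    Module.Free (Localization.AtPrime q) (LocalizedModule q.primeCompl F) := by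
  let R := Localization.AtPrime q
  let f' := LocalizedModule.map q.primeCompl f
  let u' := LocalizedModule.map q.primeCompl u
  let v' := LocalizedModule.map q.primeCompl v
  have hfu' : Function.Exact f' u' := LocalizedModule.map_exact _ _ _ hfu
  have huv' : Function.Exact u' v' := LocalizedModule.map_exact _ _ _ huv
  haveI : Module.Projective R (LocalizedModule q.primeCompl E1) :=
    Module.projective_of_isLocalizedModule q.primeCompl (LocalizedModule.mkLinearMap q.primeCompl E1)
  haveI : Module.Projective R (LocalizedModule q.primeCompl E0) :=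
    Module.projective_of_isLocalizedModule q.primeCompl (LocalizedModule.mkLinearMap q.primeCompl E0)
  haveI : Module.Flat R (LinearMap.range u') := FlatSyz.flat_of_exact (LinearMap.range u').subtype
    (LinearMap.range u').injective_subtype v'
    (fun x => by rw [huv' x]; exact ⟨fun h => ⟨⟨x, h⟩, rfl⟩, fun ⟨⟨_, h⟩, e⟩ => e ▸ h⟩)
    (LocalizedModule.map_surjective _ _ hv)
  haveI : Module.Flat R (LocalizedModule q.primeCompl F) := FlatSyz.flat_of_exact f'
    (LocalizedModule.map_injective _ _ hf) u'.rangeRestrict
    (fun x => by
      rw [← hfu' x]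
      exact ⟨fun h => congrArg Subtype.val h, fun h => Subtype.ext h⟩)
    u'.surjective_rangeRestrict
  exact Module.free_of_flat_of_isLocalRing

omit [Module.Finite B G] in
/-- Depth two of the kernel of a map of projectives, from depth two of the ring. -/
theorem two_le_depth_ker_projective (I : Ideal B) (h : 2 ≤ LocCoh.idealDepth I B) :
    2 ≤ LocCoh.idealDepth I (LinearMap.ker u) :=
  (Groth.Agent.S18700.result B I E0 E1 u).2 ((Groth.Agent.S18702.result B I E0).2.1 h)
    (le_trans one_le_two ((Groth.Agent.S18702.result B I E1).2.1 h))

/-- The kernel, when it is free off `V(I)` and the ring has depth two along `I`. -/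
theorem ker_reflexive (I : Ideal B) (h : 2 ≤ LocCoh.idealDepth I B) (huv : Function.Exact u v)
    (hv : Function.Surjective v)
    (hG : ∀ q : PrimeSpectrum B, ¬ I ≤ q.asIdeal →
      Module.Free (Localization.AtPrime q.asIdeal) (LocalizedModule q.asIdeal.primeCompl G)) :
    Module.IsReflexive B (LinearMap.ker u) := by
  refine Groth.Agent.S18703.result B I (le_trans one_le_two h) _ (fun p hp => ?_)
    (two_le_depth_ker_projective u I h)
  haveI := hG p hp
  haveI := free_localized_left (LinearMap.ker u).subtype u v (LinearMap.ker u).injective_subtype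
    (LinearMap.exact_subtype_ker_map u) huv hv p.asIdeal
  infer_instance

end free

section baseChange

variable {A B A' B' : Type u} [CommRing A] [CommRing B] [Algebra A B]
  [CommRing A'] [CommRing B'] [Algebra A A'] [Algebra B B'] [Algebra A' B']
  [Algebra A B'] [IsScalarTower A B B'] [IsScalarTower A A' B'] [Algebra.IsPushout A B A' B']

theorem flat_baseChange_ring [Module.Flat A B] : Module.Flat A' B' :=
  haveI : Algebra.IsPushout A A' B B' := Algebra.IsPushout.symm inferInstance
  Module.Flat.isBaseChange A A' B B' (Algebra.IsPushout.out (R := A) (S := A') (R' := B) (S' := B'))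

theorem baseChange_exact {X Y Z : Type u} [AddCommGroup X] [Module B X] [AddCommGroup Y] [Module B Y]
    [AddCommGroup Z] [Module B Z] {u : X →ₗ[B] Y} {v : Y →ₗ[B] Z} (huv : Function.Exact u v)
    (hv : Function.Surjective v) :
    Function.Exact (u.baseChange B') (v.baseChange B') ∧ Function.Surjective (v.baseChange B') :=
  ⟨lTensor_exact B' huv hv, LinearMap.lTensor_surjective B' hv⟩

theorem free_localized_baseChange (G : Type u) [AddCommGroup G] [Module B G] (J : Ideal B)
    (hG : ∀ q : PrimeSpectrum B, ¬ J ≤ q.asIdeal →
      Module.Free (Localization.AtPrime q.asIdeal) (LocalizedModule q.asIdeal.primeCompl G))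
    (q' : PrimeSpectrum B') (hq' : ¬ J.map (algebraMap B B') ≤ q'.asIdeal) :
    Module.Free (Localization.AtPrime q'.asIdeal) (LocalizedModule q'.asIdeal.primeCompl (B' ⊗[B] G)) :=
  Module.comap_freeLocus_le (R := B) (M := G) (A := B') (show PrimeSpectrum.comap (algebraMap B B') q' ∈
    Module.freeLocus B G from hG _ fun h => hq' (Ideal.map_le_iff_le_comap.2 h))

end baseChange

/-- With `G` flat over the base, the base change of a four term sequence stays exact on the left. -/
theorem baseChange_left_exact {A B : Type u} [CommRing A] [CommRing B] [Algebra A B]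
    (A' B' : Type u) [CommRing A'] [CommRing B'] [Algebra A A'] [Algebra B B'] [Algebra A' B']
    [Algebra A B'] [IsScalarTower A B B'] [IsScalarTower A A' B'] [Algebra.IsPushout A B A' B']
    {F E0 E1 G : Type u}
    [AddCommGroup F] [Module B F] [Module A F] [IsScalarTower A B F]
    [AddCommGroup E0] [Module B E0] [Module A E0] [IsScalarTower A B E0]
    [AddCommGroup E1] [Module B E1] [Module A E1] [IsScalarTower A B E1] [Module.Flat A E1]
    [AddCommGroup G] [Module B G] [Module A G] [IsScalarTower A B G] [Module.Flat A G]
    (f : F →ₗ[B] E0) (u : E0 →ₗ[B] E1) (v : E1 →ₗ[B] G)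
    (hf : Function.Injective f) (hfu : Function.Exact f u) (huv : Function.Exact u v)
    (hv : Function.Surjective v) :
    Function.Injective (f.baseChange B') ∧ Function.Exact (f.baseChange B') (u.baseChange B') := by
  haveI : Algebra.IsPushout A A' B B' := Algebra.IsPushout.symm inferInstance
  let p : E0 →ₗ[B] LinearMap.range u := u.rangeRestrict
  have hfp : Function.Exact f p := fun x => by
    rw [← hfu x]
    exact ⟨fun h => congrArg Subtype.val h, fun h => Subtype.ext h⟩
  have hiv : Function.Exact (LinearMap.range u).subtype v := fun x => by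
    rw [huv x]
    exact ⟨fun ⟨w, hw⟩ => ⟨⟨x, w, hw⟩, rfl⟩, fun ⟨⟨_, w, hw⟩, hw'⟩ => ⟨w, hw.trans hw'⟩⟩
  have hi := (LinearMap.range u).injective_subtype
  haveI : Module.Flat A (LinearMap.range u) := FlatSyz.flat_of_exact
    ((LinearMap.range u).subtype.restrictScalars A) hi (v.restrictScalars A) hiv hv
  have key : ∀ {X Y : Type u} [AddCommGroup X] [Module B X] [Module A X] [IsScalarTower A B X]
      [AddCommGroup Y] [Module B Y] [Module A Y] [IsScalarTower A B Y] (g : X →ₗ[B] Y),
      Function.Injective ((g.restrictScalars A).lTensor A') → Function.Injective (g.baseChange B') := by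
    intro X Y _ _ _ _ _ _ _ _ g hg
    let eX := Algebra.IsPushout.cancelBaseChange A A' B B' X
    let eY := Algebra.IsPushout.cancelBaseChange A A' B B' Y
    have hnat : ∀ z, eY.symm ((g.restrictScalars A).lTensor A' z) = g.baseChange B' (eX.symm z) := fun z => by
      induction z with
      | zero => simp
      | tmul a x => simp [eX, eY]
      | add a b ha hb => simp only [map_add, ha, hb]
    intro x y hxy
    apply eX.injective
    apply hg
    apply eY.symm.injective
    rw [hnat, hnat, eX.symm_apply_apply, eX.symm_apply_apply, hxy]
  refine ⟨key f (LinearMap.lTensor_injective_of_exact_of_flat (p.restrictScalars A) u.surjective_rangeRestrict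
    (f.restrictScalars A) hf hfp A'), ?_⟩
  have hinj := key (LinearMap.range u).subtype (LinearMap.lTensor_injective_of_exact_of_flat
    (v.restrictScalars A) hv ((LinearMap.range u).subtype.restrictScalars A) hi hiv A')
  have hex := (baseChange_exact (B' := B') hfp u.surjective_rangeRestrict).1
  intro z
  rw [← hex z, ← map_eq_zero_iff _ hinj, ← LinearMap.comp_apply, ← LinearMap.baseChange_comp]
  rfl

end Groth.Agent.QGor6
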