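import Groth.Agent.Lib.QGor6.Artinian
import Groth.Agent.Lib.ClosedAlong.Connected
import Groth.Agent.Lib.FibDepth5.Sk
import Groth.Agent.Lib.FlatDepth.CMTensor
import Mathlib

/-!
# Relative `(S₂)` of a reflexive hull and flatness of the cokernel
-/

set_option autoImplicit false
set_option linter.style.haveILetI false
set_option backward.isDefEq.respectTransparency false
set_option backward.isDefEq.respectTransparency.types false

namespace Groth.Agent.QGor6

universe u

open TensorProduct IsLocalRing

/-- Over a local ring of depth two along `I`, a module of positive depth along `I` and free off `V(I)`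
vanishes or is supported everywhere off `V(I)`. -/
theorem subsingleton_or_support {L : Type u} [CommRing L] [IsLocalRing L] [IsNoetherianRing L] (I : Ideal L)
    (hL : ∀ (p : Ideal L) [p.IsPrime], I ≤ p →
      (2 : ℕ∞) ≤ LocCoh.depth (Localization.AtPrime p) (Localization.AtPrime p))
    (N : Type u) [AddCommGroup N] [Module L N] [Module.Finite L N]
    (hfree : ∀ q : PrimeSpectrum L, ¬ I ≤ q.asIdeal →
      Module.Free (Localization.AtPrime q.asIdeal) (LocalizedModule q.asIdeal.primeCompl N))
    (hN : 1 ≤ LocCoh.idealDepth I N) :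
    Subsingleton N ∨ ∀ q : PrimeSpectrum L, ¬ I ≤ q.asIdeal → q ∈ Module.support L N := by
  haveI : PreconnectedSpace (PrimeSpectrum L) := ⟨by
    intro a b ha hb hab hna hnb
    rcases hab (Set.mem_univ (IsLocalRing.closedPoint L)) with h | h
    · have : a = Set.univ := Set.eq_univ_of_forall fun x =>
        ((PrimeSpectrum.le_iff_specializes x _).1 (IsLocalRing.le_maximalIdeal x.2.ne_top)).mem_open ha h
      obtain ⟨x, -, hx⟩ := hnb
      exact ⟨x, trivial, this ▸ trivial, hx⟩
    · have : b = Set.univ := Set.eq_univ_of_forall fun x =>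
        ((PrimeSpectrum.le_iff_specializes x _).1 (IsLocalRing.le_maximalIdeal x.2.ne_top)).mem_open hb h
      obtain ⟨x, -, hx⟩ := hna
      exact ⟨x, trivial, hx, this ▸ trivial⟩⟩
  have hU := ClosedAlong.isPreconnected_compl_of_depth I hL
  have key : ∀ x : PrimeSpectrum L, ¬ I ≤ x.asIdeal → x ∈ Module.support L N →
      ∃ s : L, s ∉ x.asIdeal ∧ (PrimeSpectrum.basicOpen s : Set (PrimeSpectrum L)) ⊆ Module.support L N := by
    intro x hx hxs
    haveI := hfree x hx
    obtain ⟨s, hs, k, a, b, hab⟩ := exists_retract_of_free (M := N) x.asIdeal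
    by_cases h : ∃ m i, a m i ∉ x.asIdeal
    · obtain ⟨m, i, hmi⟩ := h
      refine ⟨a m i, hmi, fun y hy => Module.mem_support_iff'.2 ⟨m, fun r hr h0 => ?_⟩⟩
      have h1 := congrFun (congrArg a h0) i
      rw [map_smul, map_zero, Pi.smul_apply, Pi.zero_apply, smul_eq_mul] at h1
      exact (y.2.mem_or_mem (h1 ▸ y.asIdeal.zero_mem)).elim hr hy
    · push Not at h
      haveI : Nontrivial (LocalizedModule x.asIdeal.primeCompl N) := Module.mem_support_iff.1 hxs
      let L' := Localization.AtPrime x.asIdeal
      have htop : (⊤ : Submodule L' (LocalizedModule x.asIdeal.primeCompl N)) ≤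
          IsLocalRing.maximalIdeal L' • (⊤ : Submodule L' (LocalizedModule x.asIdeal.primeCompl N)) := by
        intro z _
        induction z using LocalizedModule.induction_on with
        | h m t =>
          have hu : IsUnit (algebraMap L L' s) := IsLocalization.map_units L' (⟨s, hs⟩ : x.asIdeal.primeCompl)
          have hsm : ∀ i, LocalizedModule.mkLinearMap x.asIdeal.primeCompl N (a m i • b (Pi.single i 1)) ∈
              IsLocalRing.maximalIdeal L' • (⊤ : Submodule L' (LocalizedModule x.asIdeal.primeCompl N)) := fun i => by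
            rw [map_smul, ← algebraMap_smul L' (a m i)]
            refine Submodule.smul_mem_smul ?_ Submodule.mem_top
            rw [← Localization.AtPrime.map_eq_maximalIdeal]
            exact Ideal.mem_map_of_mem _ (h m i)
          have hsum : s • m = ∑ i, a m i • b (Pi.single i 1) := by
            rw [show s • m = b (a m) from (LinearMap.congr_fun hab m).symm]
            conv_lhs => rw [pi_eq_sum_univ' (a m)]
            simp [map_sum]
          have h1 : LocalizedModule.mkLinearMap x.asIdeal.primeCompl N (s • m) ∈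
              IsLocalRing.maximalIdeal L' • (⊤ : Submodule L' (LocalizedModule x.asIdeal.primeCompl N)) := by
            rw [hsum, map_sum]
            exact Submodule.sum_mem _ fun i _ => hsm i
          rw [show LocalizedModule.mk m t = (hu.unit⁻¹ : L'ˣ).val • (Localization.mk (1 : L) t •
              LocalizedModule.mkLinearMap x.asIdeal.primeCompl N (s • m)) from ?_]
          · exact Submodule.smul_mem _ _ (Submodule.smul_mem _ _ h1)
          · rw [map_smul, ← algebraMap_smul L' s (LocalizedModule.mkLinearMap x.asIdeal.primeCompl N m),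
              smul_comm (Localization.mk (1 : L) t), smul_smul, IsUnit.val_inv_mul, one_smul,
              LocalizedModule.mkLinearMap_apply, LocalizedModule.mk_smul_mk, one_smul, mul_one]
      exact absurd (top_le_iff.1 htop) (Submodule.top_ne_ideal_smul_of_le_jacobson_annihilator
        (IsLocalRing.maximalIdeal_le_jacobson _)).symm
  by_cases hne : ∃ x : PrimeSpectrum L, ¬ I ≤ x.asIdeal ∧ x ∈ Module.support L N
  · right
    choose s hs hsub using key
    let T : Set (PrimeSpectrum L) := ⋃ (x : PrimeSpectrum L) (hx : ¬ I ≤ x.asIdeal) (hxs : x ∈ Module.support L N),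
      (PrimeSpectrum.basicOpen (s x hx hxs) : Set (PrimeSpectrum L))
    have hT : IsOpen T := isOpen_iUnion fun x => isOpen_iUnion fun _ => isOpen_iUnion fun _ =>
      (PrimeSpectrum.basicOpen _).2
    have hTs : T ⊆ Module.support L N := Set.iUnion_subset fun x => Set.iUnion_subset fun hx =>
      Set.iUnion_subset fun hxs => hsub x hx hxs
    intro q hq
    by_contra hqs
    obtain ⟨x, hx, hxs⟩ := hne
    obtain ⟨z, -, hz1, hz2⟩ := hU T (Module.support L N)ᶜ hT Module.isClosed_support.isOpen_compl
      (fun y hy => by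
        by_cases hys : y ∈ Module.support L N
        · exact Or.inl (Set.mem_iUnion.2 ⟨y, Set.mem_iUnion.2 ⟨hy, Set.mem_iUnion.2 ⟨hys, hs y hy hys⟩⟩⟩)
        · exact Or.inr hys)
      ⟨x, hx, Set.mem_iUnion.2 ⟨x, Set.mem_iUnion.2 ⟨hx, Set.mem_iUnion.2 ⟨hxs, hs x hx hxs⟩⟩⟩⟩ ⟨q, hq, hqs⟩
    exact hz2 (hTs hz1)
  · left
    push Not at hne
    have hsupp : Module.support L N ⊆ PrimeSpectrum.zeroLocus I := fun q hq => by
      by_contra h
      exact hne q (fun hle => h hle) hq
    have h0 := DepthLib.subsingleton_ext_of_le_idealDepth (M := N) (n := 1)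
      (by exact_mod_cast hN) (ModuleCat.of L N) hsupp Nat.one_pos
    have h00 : CategoryTheory.CategoryStruct.id (ModuleCat.of L N) = 0 :=
      (CategoryTheory.Abelian.Ext.mk₀_bijective _ _).1 (@Subsingleton.elim _ h0 _ _)
    exact subsingleton_of_forall_eq 0 fun m => congr(($h00).hom m)

/-- `(S_n)` at a prime is kept by extension of the base field. -/
theorem skIneq_field_baseChange {k : Type u} [Field k] (S : Type u) [CommRing S] [Algebra k S] [IsNoetherianRing S]
    (K : Type u) [Field K] [Algebra k K] [IsNoetherianRing (S ⊗[k] K)] (n : ℕ) (q : Ideal (S ⊗[k] K)) [q.IsPrime]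
    (h : FlatDepth.SkIneq n (Localization.AtPrime (q.comap (algebraMap S (S ⊗[k] K))))) :
    FlatDepth.SkIneq n (Localization.AtPrime q) :=
  FlatDepth.skIneq_of_fibre n q h (FlatDepth.skIneq_fibLoc_field S K n q)

variable {A B A' B' : Type u} [CommRing A] [CommRing B] [IsNoetherianRing B] [Algebra A B]
  [CommRing A'] [CommRing B'] [IsNoetherianRing B'] [Algebra A A'] [Algebra B B'] [Algebra A' B']
  [Algebra A B'] [IsScalarTower A B B'] [IsScalarTower A A' B'] [Algebra.IsPushout A B A' B']


/-- `(S_k)` of the fibre local rings is stable under base change. -/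
theorem skIneq_fibLocRing_baseChange (k : ℕ) (q' : Ideal B') [q'.IsPrime] (q : Ideal B) [q.IsPrime]
    (hq : q'.comap (algebraMap B B') = q) (h : FlatDepth.SkIneq k (EGA4.FibLocRing A B q)) :
    FlatDepth.SkIneq k (EGA4.FibLocRing A' B' q') := by
  haveI : Algebra.IsPushout A A' B B' := Algebra.IsPushout.symm inferInstance
  let P : PrimeSpectrum A' := PrimeSpectrum.comap (algebraMap A' B') ⟨q', ‹_›⟩
  let Q' := PrimeSpectrum.preimageEquivFiber A' B' P ⟨⟨q', ‹_›⟩, rfl⟩
  have hQ' : Q'.asIdeal.comap (Algebra.TensorProduct.includeRight : B' →ₐ[A'] P.asIdeal.Fiber B') = q' :=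
    congrArg (fun x => x.1.asIdeal)
      ((PrimeSpectrum.preimageEquivFiber A' B' P).symm_apply_apply ⟨⟨q', ‹_›⟩, rfl⟩)
  let p := P.asIdeal.under A
  haveI : P.asIdeal.LiesOver p := ⟨rfl⟩
  letI := Localization.AtPrime.algebraOfLiesOver p P.asIdeal
  let ψ : p.Fiber B ⊗[p.ResidueField] P.asIdeal.ResidueField ≃+* P.asIdeal.Fiber B' :=
    (Algebra.TensorProduct.comm p.ResidueField (p.Fiber B) P.asIdeal.ResidueField).toRingEquiv.trans
      (((Algebra.TensorProduct.cancelBaseChange A p.ResidueField P.asIdeal.ResidueField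
          P.asIdeal.ResidueField B).trans
        ((Algebra.TensorProduct.cancelBaseChange A A' P.asIdeal.ResidueField P.asIdeal.ResidueField B).symm.trans
          (Algebra.TensorProduct.congr AlgEquiv.refl (Algebra.IsPushout.equiv A A' B B')))).toRingEquiv)
  have hψ : ∀ b : B, ψ (algebraMap (p.Fiber B) _ ((1 : p.ResidueField) ⊗ₜ[A] b)) =
      (1 : P.asIdeal.ResidueField) ⊗ₜ[A'] algebraMap B B' b := fun b => by
    simp [ψ, Algebra.TensorProduct.algebraMap_apply, Algebra.IsPushout.equiv_tmul]
  haveI : IsNoetherianRing (P.asIdeal.Fiber B') := FlatDepth.isNoetherianRing_fiber _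
  haveI : IsNoetherianRing (p.Fiber B) := FlatDepth.isNoetherianRing_fiber _
  haveI : IsNoetherianRing (p.Fiber B ⊗[p.ResidueField] P.asIdeal.ResidueField) :=
    isNoetherianRing_of_ringEquiv _ ψ.symm
  let Q'' : Ideal (p.Fiber B ⊗[p.ResidueField] P.asIdeal.ResidueField) :=
    Q'.asIdeal.comap (RingHomClass.toRingHom ψ)
  haveI : Q''.IsPrime := Ideal.IsPrime.comap _
  let Q := Q''.comap (algebraMap (p.Fiber B) _)
  have hQ : Q.comap (Algebra.TensorProduct.includeRight : B →ₐ[A] p.Fiber B) = q := by
    rw [← hq, ← hQ']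
    ext b
    show ψ (algebraMap (p.Fiber B) _ ((1 : p.ResidueField) ⊗ₜ[A] b)) ∈ Q'.asIdeal ↔ _
    rw [hψ]
    rfl
  obtain ⟨e₁⟩ := nonempty_fiberAtPrimeEquiv p Q q hQ
  obtain ⟨e₂⟩ := nonempty_fiberAtPrimeEquiv P.asIdeal Q'.asIdeal q' hQ'
  have h1 : FlatDepth.SkIneq k (Localization.AtPrime Q) := h.congr e₁.symm
  have h2 := skIneq_field_baseChange (k := p.ResidueField) (p.Fiber B) P.asIdeal.ResidueField k Q'' h1
  let e := FlatDepth.atPrimeRingEquiv (R := p.Fiber B ⊗[p.ResidueField] P.asIdeal.ResidueField)
    (S := P.asIdeal.Fiber B') ψ Q'.asIdeal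
  refine @FlatDepth.SkIneq.congr k (Localization.AtPrime Q'.asIdeal) (EGA4.FibLocRing A' B' q') _ _ _ _ e₂ ?_
  refine FlatDepth.SkIneq.congr e ?_
  exact h2

section criterion

variable {R S : Type u} [CommRing R] [CommRing S] [IsNoetherianRing R] [IsNoetherianRing S] [Algebra R S]
  [Module.Flat R S]

/-- Depth along `J` of the fibre local ring at `q`, as a module over `S_q`. -/
theorem two_le_idealDepth_fibLocRing (J : Ideal S) (q : Ideal S) [q.IsPrime]
    (hd : ∀ (p : Ideal S) [p.IsPrime], J ≤ p → 2 ≤ LocCoh.depth (EGA4.FibLocRing R S p) (EGA4.FibLocRing R S p)) :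
    2 ≤ LocCoh.idealDepth (J.map (algebraMap S (Localization.AtPrime q))) (EGA4.FibLocRing R S q) := by
  have h2 := (FlatDepth.natCast_le_idealDepth_fibre_localized_iff (A := R) S J q 2).2
    fun p _ _ hJ _ => by
      rw [FlatDepth.map_fibLocRing_eq_maximalIdeal]
      exact (by exact_mod_cast hd p hJ : ((2 : ℕ) : ℕ∞) ≤ _).trans_eq (FlatDepth.fib_self_invariants p).1.symm
  let e : LocalizedModule q.primeCompl (S ⧸ (q.comap (algebraMap R S)).map (algebraMap R S) • (⊤ : Submodule S S))
      ≃ₗ[Localization.AtPrime q] EGA4.FibLocRing R S q :=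
    ((FlatDepth.localizeQuotModEquiv S ((q.comap (algebraMap R S)).map (algebraMap R S)) q.primeCompl).trans
      (Submodule.quotEquivOfEq _ _ (by rw [Ideal.map_map, ← IsScalarTower.algebraMap_eq]))).trans
        (FlatDepth.fibSelfEquiv q)
  rw [DepthLib.idealDepth_congr (M' := EGA4.FibLocRing R S q) e] at h2
  exact_mod_cast h2

/-- A kernel of projectives, free off `V(J)`, whose fibre at `q` satisfies `(S₂)`, has depth two there. -/
theorem two_le_depth_fibre_of_skIneq (J : Ideal S) (q : Ideal S) [q.IsPrime] (hJq : J ≤ q)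
    (hd : ∀ (p : Ideal S) [p.IsPrime], J ≤ p → 2 ≤ LocCoh.depth (EGA4.FibLocRing R S p) (EGA4.FibLocRing R S p))
    (M : Type u) [AddCommGroup M] [Module S M] [Module.Finite S M]
    (hfree : ∀ p : PrimeSpectrum S, ¬ J ≤ p.asIdeal →
      Module.Free (Localization.AtPrime p.asIdeal) (LocalizedModule p.asIdeal.primeCompl M))
    (hM : 2 ≤ LocCoh.idealDepth J M)
    (hsk : min (2 : WithBot ℕ∞) (Module.supportDim (EGA4.FibLocRing R S q) (EGA4.FibLocMod R S q M)) ≤
      ((LocCoh.depth (EGA4.FibLocRing R S q) (EGA4.FibLocMod R S q M) : ℕ∞) : WithBot ℕ∞)) :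
    2 ≤ LocCoh.depth (EGA4.FibLocRing R S q) (EGA4.FibLocMod R S q M) := by
  let L := Localization.AtPrime q
  let N := LocalizedModule q.primeCompl M
  let I := J.map (algebraMap S L)
  let 𝔞 := (q.comap (algebraMap R S)).map (algebraMap R L)
  have hS2 : 2 ≤ LocCoh.idealDepth J S := FlatDepth.le_idealDepth_self_of_fibres (A := R) J 2 fun p hp => by
    rw [FlatDepth.map_fibLocRing_eq_maximalIdeal]; exact_mod_cast hd p.asIdeal hp
  have hL : ∀ (P : Ideal L) [P.IsPrime], I ≤ P →
      (2 : ℕ∞) ≤ LocCoh.depth (Localization.AtPrime P) (Localization.AtPrime P) := fun P _ hP => by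
    have h2 := (DepthLib.natCast_le_idealDepth_iff_forall_localized (R := S) (M := S) 2).1 (by exact_mod_cast hS2)
      ⟨P.comap (algebraMap S L), inferInstance⟩ (Ideal.map_le_iff_le_comap.1 hP)
    rw [← (FlatDepth.invariants_localization_localization (M := S) q.primeCompl P).1] at h2
    let e : LocalizedModule P.primeCompl (LocalizedModule q.primeCompl S) ≃ₗ[Localization.AtPrime P]
        LocalizedModule P.primeCompl L :=
      IsLocalizedModule.mapEquiv P.primeCompl (LocalizedModule.mkLinearMap P.primeCompl _)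
        (LocalizedModule.mkLinearMap P.primeCompl L) (Localization.AtPrime P)
        ((IsLocalizedModule.iso q.primeCompl (Algebra.linearMap S L)).extendScalarsOfIsLocalization q.primeCompl L)
    rw [LocCoh.depth, DepthLib.idealDepth_congr (M' := LocalizedModule P.primeCompl L) e, ← LocCoh.depth,
      (FlatDepth.self_invariants P).1] at h2
    exact_mod_cast h2
  have hNfree : ∀ P : PrimeSpectrum L, ¬ I ≤ P.asIdeal →
      Module.Free (Localization.AtPrime P.asIdeal) (LocalizedModule P.asIdeal.primeCompl N) := fun P hP => by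
    refine (Module.mem_freeLocus (R := L) (M := N)).1 ?_
    rw [Module.freeLocus_localization q.primeCompl]
    exact hfree _ fun h => hP (Ideal.map_le_iff_le_comap.2 h)
  have hN : 1 ≤ LocCoh.idealDepth I N := by
    refine le_trans (le_of_eq (by norm_num)) ((DepthLib.natCast_le_idealDepth_iff_forall_localized 1).2 fun P hP => ?_)
    rw [(FlatDepth.invariants_localization_localization (M := M) q.primeCompl P.asIdeal).1]
    exact (DepthLib.natCast_le_idealDepth_iff_forall_localized (R := S) (M := M) 1).1
      (by exact_mod_cast le_trans one_le_two hM) ⟨P.asIdeal.comap (algebraMap S L), inferInstance⟩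
      (Ideal.map_le_iff_le_comap.1 hP)
  rcases subsingleton_or_support I hL N hNfree hN with h | h
  · have : Subsingleton (EGA4.FibLocMod R S q M) := Quotient.instSubsingletonQuotient _
    exact le_top.trans_eq (DepthLib.idealDepth_of_smul_top_eq_top (Subsingleton.elim _ _)).symm
  · have hs : Function.Surjective (algebraMap L (EGA4.FibLocRing R S q)) := Ideal.Quotient.mk_surjective
    have hne : 𝔞 ≤ IsLocalRing.maximalIdeal L := IsLocalRing.le_maximalIdeal
      (Ideal.Quotient.nontrivial_iff.1 (inferInstanceAs (Nontrivial (EGA4.FibLocRing R S q))))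
    have hIO : I • (⊤ : Submodule L (EGA4.FibLocRing R S q)) ≠ ⊤ := fun htop => by
      have hI : I ≤ IsLocalRing.maximalIdeal L := by
        rw [← Localization.AtPrime.map_eq_maximalIdeal]
        exact Ideal.map_mono hJq
      exact Submodule.top_ne_ideal_smul_of_le_jacobson_annihilator
        (hI.trans (IsLocalRing.maximalIdeal_le_jacobson _)) htop.symm
    obtain ⟨x, hxI, hx⟩ := DepthLib.exists_isSMulRegular_of_one_le_idealDepth hIO
      (le_trans one_le_two (two_le_idealDepth_fibLocRing J q hd))
    have hann : Module.annihilator L (EGA4.FibLocRing R S q) = 𝔞 := Ideal.annihilator_quotient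
    have hsupp : Module.support L (EGA4.FibLocMod R S q M) = Module.support L (EGA4.FibLocRing R S q) := by
      rw [Module.support_quotient, Module.support_eq_zeroLocus (M := EGA4.FibLocRing R S q), hann]
      refine Set.inter_eq_right.2 fun y hy => ?_
      obtain ⟨η, hη, hle⟩ := Ideal.exists_minimalPrimes_le (J := y.asIdeal) (show 𝔞 ≤ y.asIdeal from hy)
      have hxη : x ∉ η := hx.notMem_of_mem_minimalPrimes (hann ▸ hη)
      exact Module.mem_support_mono (p := ⟨η, hη.1.1⟩) hle
        (h ⟨η, hη.1.1⟩ fun hIη => hxη (hIη hxI))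
    haveI : Module.Finite (EGA4.FibLocRing R S q) (EGA4.FibLocMod R S q M) :=
      Module.Finite.of_restrictScalars_finite L _ _
    have hdim : Module.supportDim (EGA4.FibLocRing R S q) (EGA4.FibLocMod R S q M) =
        ringKrullDim (EGA4.FibLocRing R S q) := by
      rw [← FlatDepth.supportDim_eq_of_surjective _ hs,
        ← Module.supportDim_self_eq_ringKrullDim, ← FlatDepth.supportDim_eq_of_surjective (A := L) (EGA4.FibLocRing R S q) hs,
        Module.supportDim, Module.supportDim, hsupp]
    have h2 : ((2 : ℕ∞) : WithBot ℕ∞) ≤ ringKrullDim (EGA4.FibLocRing R S q) := by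
      rw [← Module.supportDim_self_eq_ringKrullDim]
      exact le_trans (WithBot.coe_le_coe.2 (hd q hJq)) DepthLib.depth_le_supportDim
    rw [hdim] at hsk
    exact WithBot.coe_le_coe.1 (le_trans (le_min le_rfl h2) hsk)

/-- The reflexive hull criterion: relative `(S₂)` of the kernel is flatness of the cokernel. -/
theorem relS2_ker_iff_flatAt (J : Ideal S)
    (hd : ∀ (p : Ideal S) [p.IsPrime], J ≤ p → 2 ≤ LocCoh.depth (EGA4.FibLocRing R S p) (EGA4.FibLocRing R S p))
    (q : Ideal S) [q.IsPrime]
    (hsk : ∀ (p : Ideal S) [p.IsPrime], p ≤ q → p.comap (algebraMap R S) = q.comap (algebraMap R S) →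
      FlatDepth.SkIneq 2 (EGA4.FibLocRing R S p))
    {K E0 E1 G : Type u} [AddCommGroup K] [Module S K] [Module R K] [IsScalarTower R S K] [Module.Finite S K]
    [AddCommGroup E0] [Module S E0] [Module R E0] [IsScalarTower R S E0] [Module.Finite S E0] [Module.Projective S E0]
    [AddCommGroup E1] [Module S E1] [Module R E1] [IsScalarTower R S E1] [Module.Finite S E1] [Module.Projective S E1]
    [AddCommGroup G] [Module S G] [Module R G] [IsScalarTower R S G] [Module.Finite S G]
    (i : K →ₗ[S] E0) (u : E0 →ₗ[S] E1) (v : E1 →ₗ[S] G)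
    (hi : Function.Injective i) (hiu : Function.Exact i u) (huv : Function.Exact u v) (hv : Function.Surjective v)
    (hGU : ∀ p : PrimeSpectrum S, ¬ J ≤ p.asIdeal → Module.Free (Localization.AtPrime p.asIdeal) (LocalizedModule p.asIdeal.primeCompl G)) :
    (FlatCA.FlatAt R q K ∧ LocCoh.HasSk 2 (EGA4.FibLocRing R S q) (EGA4.FibLocMod R S q K)) ↔
      FlatCA.FlatAt R q G := by
  haveI : Module.Flat R E0 := Module.Flat.trans R S _
  haveI : Module.Flat R E1 := Module.Flat.trans R S _
  have hKfree : ∀ p : PrimeSpectrum S, ¬ J ≤ p.asIdeal →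
      Module.Free (Localization.AtPrime p.asIdeal) (LocalizedModule p.asIdeal.primeCompl K) := fun p hp => by
    haveI := hGU p hp
    exact free_localized_left i u v hi hiu huv hv p.asIdeal
  have hS2 : 2 ≤ LocCoh.idealDepth J S := FlatDepth.le_idealDepth_self_of_fibres (A := R) J 2 fun p hp => by
    rw [FlatDepth.map_fibLocRing_eq_maximalIdeal]; exact_mod_cast hd p.asIdeal hp
  have hK : 2 ≤ LocCoh.idealDepth J K := by
    rw [DepthLib.idealDepth_congr ((LinearEquiv.ofInjective i hi).trans (LinearEquiv.ofEq _ _ hiu.linearMap_ker_eq.symm))]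
    exact two_le_depth_ker_projective u J hS2
  have four := fourTerm_at' (A := R) (B := S) J q i u v hi hiu huv hv
    (fun p hp => by
      haveI := hGU p hp
      haveI : Module.Flat R (Localization.AtPrime p.asIdeal) := Module.Flat.trans R S _
      exact Module.Flat.trans R (Localization.AtPrime p.asIdeal) _)
    (fun p _ _ hJ _ => fibre_depth_projective _ p 2 (by rw [FlatDepth.map_fibLocRing_eq_maximalIdeal]; exact hd p hJ))
    (fun p _ _ hJ _ => fibre_depth_projective _ p 1
      (by rw [FlatDepth.map_fibLocRing_eq_maximalIdeal]; exact le_trans one_le_two (hd p hJ)))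
  haveI := FibDepth5.isLocalRing_fibLocRing (A := R) q
  haveI : Module.Finite (EGA4.FibLocRing R S q) (EGA4.FibLocMod R S q K) :=
    Module.Finite.of_restrictScalars_finite (Localization.AtPrime q) _ _
  have hs : Function.Surjective (algebraMap (Localization.AtPrime q) (EGA4.FibLocRing R S q)) :=
    Ideal.Quotient.mk_surjective
  constructor
  · rintro ⟨-, hS⟩
    have h := (FibDepth5.hasSk_fibLocMod_iff (A := R) (M := K) 2 q).1 ((FibDepth5.hasSk_of_surjective hs 2).2 hS)
    refine four.1.2 fun p _ hle hJ hc => ?_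
    rw [FlatDepth.map_fibLocRing_eq_maximalIdeal]
    exact two_le_depth_fibre_of_skIneq J p hJ hd K hKfree hK (h p hle hc)
  · intro hG
    refine ⟨four.2 hG, (FibDepth5.hasSk_of_surjective hs 2).1
      ((FibDepth5.hasSk_fibLocMod_iff (A := R) (M := K) 2 q).2 fun p _ hle hc => ?_)⟩
    by_cases hJ : J ≤ p
    · have h2 := four.1.1 hG p hle hJ hc
      rw [FlatDepth.map_fibLocRing_eq_maximalIdeal] at h2
      exact (min_le_left _ _).trans (WithBot.coe_le_coe.2 h2)
    · haveI := hKfree ⟨p, ‹_›⟩ hJ
      exact (min_le_min_left _ (Module.supportDim_le_ringKrullDim _ _)).trans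
        ((hsk p hle hc).trans (WithBot.coe_le_coe.2 (fibre_depth_free K p)))

end criterion

end Groth.Agent.QGor6
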