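import Groth.Agent.Lib.QGor6.S2Crit
import Groth.Agent.Lib.FlatDepth.Regular
import Groth.Agent.Lib.FibDepth5.Sk
import Mathlib

/-!
# Flatness of the cokernel from relative `(S₂)` of the double dual over a local base
-/

set_option autoImplicit false
set_option linter.style.haveILetI false
set_option backward.isDefEq.respectTransparency false
set_option backward.isDefEq.respectTransparency.types false

namespace Groth.Agent.QGor6

universe u

open TensorProduct IsLocalRing FlatDepth in
/-- Depth along an ideal of a module flat over the base, from the closed fibre. -/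
theorem le_idealDepth_of_closed_fibre {R S : Type u} [CommRing R] [CommRing S] [Algebra R S] [IsLocalRing R]
    [IsLocalRing S] [IsLocalHom (algebraMap R S)] [IsNoetherianRing R] [IsNoetherianRing S] (I : Ideal S)
    (hI : I ≤ maximalIdeal S) : ∀ (n : ℕ) (N : Type u) [AddCommGroup N] [Module S N] [Module R N] [IsScalarTower R S N]
      [Module.Finite S N] [Module.Flat R N], (n : ℕ∞) ≤ LocCoh.idealDepth I (N ⊗[R] (R ⧸ maximalIdeal R)) →
      (n : ℕ∞) ≤ LocCoh.idealDepth I N := by
  intro n
  induction n with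
  | zero => intro N _ _ _ _ _ _ _; simp
  | succ n ih =>
    intro N _ _ _ _ _ _ h
    rcases subsingleton_or_nontrivial N with hN | hN
    · rw [DepthLib.idealDepth_of_smul_top_eq_top (Subsingleton.elim _ _)]; exact le_top
    · haveI := nontrivial_fibre S (R := R) (N := N)
      obtain ⟨x, hx, hreg⟩ := DepthLib.exists_isSMulRegular_of_one_le_idealDepth
        (DepthLib.smul_top_ne_top (M := N ⊗[R] (R ⧸ maximalIdeal R))
          (ne_top_of_le_ne_top (maximalIdeal.isMaximal S).ne_top hI))
        (le_trans (by exact_mod_cast Nat.le_add_left 1 n) h)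
      obtain ⟨hN1, hflat⟩ := regular_flat_of_regular_fibre hreg
      rw [← DepthLib.idealDepth_quotSMulTop_add_one hx hN1, Nat.cast_succ]
      refine add_le_add_left (ih (QuotSMulTop x N) ?_) 1
      rw [← DepthLib.idealDepth_congr (quotLeftEquiv x)]
      rw [← DepthLib.idealDepth_quotSMulTop_add_one hx hreg, Nat.cast_succ] at h
      exact (ENat.add_le_add_iff_right ENat.one_ne_top).1 h

open TensorProduct IsLocalRing

variable {R S : Type u} [CommRing R] [CommRing S] [IsNoetherianRing R] [IsNoetherianRing S] [Algebra R S]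
  [Module.Flat R S]

/-- Depth along `J` of the fibre local ring at `q`, as a module over `S_q`. -/
theorem two_le_idealDepth_fibLocRing' (J : Ideal S) (q : Ideal S) [q.IsPrime]
    (hd : ∀ (p : Ideal S) [p.IsPrime], p ≤ q → J ≤ p → p.comap (algebraMap R S) = q.comap (algebraMap R S) → 2 ≤ LocCoh.depth (EGA4.FibLocRing R S p) (EGA4.FibLocRing R S p)) :
    2 ≤ LocCoh.idealDepth (J.map (algebraMap S (Localization.AtPrime q))) (EGA4.FibLocRing R S q) := by
  have h2 := (FlatDepth.natCast_le_idealDepth_fibre_localized_iff (A := R) S J q 2).2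
    fun p _ hl hJ hc => by
      rw [FlatDepth.map_fibLocRing_eq_maximalIdeal]
      exact (by exact_mod_cast hd p hl hJ hc : ((2 : ℕ) : ℕ∞) ≤ _).trans_eq (FlatDepth.fib_self_invariants p).1.symm
  let e : LocalizedModule q.primeCompl (S ⧸ (q.comap (algebraMap R S)).map (algebraMap R S) • (⊤ : Submodule S S))
      ≃ₗ[Localization.AtPrime q] EGA4.FibLocRing R S q :=
    ((FlatDepth.localizeQuotModEquiv S ((q.comap (algebraMap R S)).map (algebraMap R S)) q.primeCompl).trans
      (Submodule.quotEquivOfEq _ _ (by rw [Ideal.map_map, ← IsScalarTower.algebraMap_eq]))).trans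
        (FlatDepth.fibSelfEquiv q)
  rw [DepthLib.idealDepth_congr (M' := EGA4.FibLocRing R S q) e] at h2
  exact_mod_cast h2

/-- A kernel of projectives, free off `V(J)`, whose fibre at `q` satisfies `(S₂)`, has depth two there. -/
theorem two_le_depth_fibre_of_skIneq' (J : Ideal S) (q : Ideal S) [q.IsPrime] (hJq : J ≤ q)
    (hd : ∀ (p : Ideal S) [p.IsPrime], p ≤ q → J ≤ p → p.comap (algebraMap R S) = q.comap (algebraMap R S) →
      2 ≤ LocCoh.depth (EGA4.FibLocRing R S p) (EGA4.FibLocRing R S p))
    (hdepth : ∀ (p : Ideal S) [p.IsPrime], p ≤ q → J ≤ p → 2 ≤ LocCoh.depth (Localization.AtPrime p) (Localization.AtPrime p))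
    (M : Type u) [AddCommGroup M] [Module S M] [Module.Finite S M]
    (hfree : ∀ p : PrimeSpectrum S, ¬ J ≤ p.asIdeal →
      Module.Free (Localization.AtPrime p.asIdeal) (LocalizedModule p.asIdeal.primeCompl M))
    (hM : ∀ (p : Ideal S) [p.IsPrime], p ≤ q → J ≤ p → 2 ≤ LocCoh.depth (Localization.AtPrime p) (LocalizedModule p.primeCompl M))
    (hsk : min (2 : WithBot ℕ∞) (Module.supportDim (EGA4.FibLocRing R S q) (EGA4.FibLocMod R S q M)) ≤
      ((LocCoh.depth (EGA4.FibLocRing R S q) (EGA4.FibLocMod R S q M) : ℕ∞) : WithBot ℕ∞)) :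
    2 ≤ LocCoh.depth (EGA4.FibLocRing R S q) (EGA4.FibLocMod R S q M) := by
  let L := Localization.AtPrime q
  let N := LocalizedModule q.primeCompl M
  let I := J.map (algebraMap S L)
  let 𝔞 := (q.comap (algebraMap R S)).map (algebraMap R L)
  have hle : ∀ P : Ideal L, P ≠ ⊤ → P.comap (algebraMap S L) ≤ q := fun P hP a ha => by
    by_contra han
    exact hP (Ideal.eq_top_of_isUnit_mem _ ha (IsLocalization.map_units L (⟨a, han⟩ : q.primeCompl)))
  have hL : ∀ (P : Ideal L) [P.IsPrime], I ≤ P →
      (2 : ℕ∞) ≤ LocCoh.depth (Localization.AtPrime P) (Localization.AtPrime P) := fun P hP' hP => by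
    have h2 := hdepth _ (hle P hP'.ne_top) (Ideal.map_le_iff_le_comap.1 hP)
    rw [← (FlatDepth.self_invariants (P.comap (algebraMap S L))).1,
      ← (FlatDepth.invariants_localization_localization (M := S) q.primeCompl P).1] at h2
    let e : LocalizedModule P.primeCompl (LocalizedModule q.primeCompl S) ≃ₗ[Localization.AtPrime P]
        LocalizedModule P.primeCompl L :=
      IsLocalizedModule.mapEquiv P.primeCompl (LocalizedModule.mkLinearMap P.primeCompl _)
        (LocalizedModule.mkLinearMap P.primeCompl L) (Localization.AtPrime P)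
        ((IsLocalizedModule.iso q.primeCompl (Algebra.linearMap S L)).extendScalarsOfIsLocalization q.primeCompl L)
    rw [LocCoh.depth, DepthLib.idealDepth_congr (M' := LocalizedModule P.primeCompl L) e, ← LocCoh.depth,
      (FlatDepth.self_invariants P).1] at h2
    exact h2
  have hNfree : ∀ P : PrimeSpectrum L, ¬ I ≤ P.asIdeal →
      Module.Free (Localization.AtPrime P.asIdeal) (LocalizedModule P.asIdeal.primeCompl N) := fun P hP => by
    refine (Module.mem_freeLocus (R := L) (M := N)).1 ?_
    rw [Module.freeLocus_localization q.primeCompl]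
    exact hfree _ fun h => hP (Ideal.map_le_iff_le_comap.2 h)
  have hN : 1 ≤ LocCoh.idealDepth I N := by
    refine le_trans (le_of_eq (by norm_num)) ((DepthLib.natCast_le_idealDepth_iff_forall_localized 1).2 fun P hP => ?_)
    rw [(FlatDepth.invariants_localization_localization (M := M) q.primeCompl P.asIdeal).1]
    exact_mod_cast le_trans one_le_two (hM _ (hle P.asIdeal P.2.ne_top) (Ideal.map_le_iff_le_comap.1 hP))
  rcases subsingleton_or_support I hL N hNfree hN with h | h
  · have : Subsingleton (EGA4.FibLocMod R S q M) := Quotient.instSubsingletonQuotient _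
    exact le_top.trans_eq (DepthLib.idealDepth_of_smul_top_eq_top (Subsingleton.elim _ _)).symm
  · have hs : Function.Surjective (algebraMap L (EGA4.FibLocRing R S q)) := Ideal.Quotient.mk_surjective
    have hne : 𝔞 ≤ IsLocalRing.maximalIdeal L := IsLocalRing.le_maximalIdeal
      (Ideal.Quotient.nontrivial_iff.1 (inferInstanceAs (Nontrivial (EGA4.FibLocRing R S q))))
    have hIO : I • (⊤ : Submodule L (EGA4.FibLocRing R S q)) ≠ ⊤ := fun htop => by
      have hI : I ≤ IsLocalRing.maximalIdeal L := by
        rw [← Localization.AtPrime.map_eq_maximalIdeal]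
        exact Ideal.map_mono hJq
      exact Submodule.top_ne_ideal_smul_of_le_jacobson_annihilator
        (hI.trans (IsLocalRing.maximalIdeal_le_jacobson _)) htop.symm
    obtain ⟨x, hxI, hx⟩ := DepthLib.exists_isSMulRegular_of_one_le_idealDepth hIO
      (le_trans one_le_two (two_le_idealDepth_fibLocRing' J q hd))
    have hann : Module.annihilator L (EGA4.FibLocRing R S q) = 𝔞 := Ideal.annihilator_quotient
    have hsupp : Module.support L (EGA4.FibLocMod R S q M) = Module.support L (EGA4.FibLocRing R S q) := by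
      rw [Module.support_quotient, Module.support_eq_zeroLocus (M := EGA4.FibLocRing R S q), hann]
      refine Set.inter_eq_right.2 fun y hy => ?_
      obtain ⟨η, hη, hle⟩ := Ideal.exists_minimalPrimes_le (J := y.asIdeal) (show 𝔞 ≤ y.asIdeal from hy)
      have hxη : x ∉ η := hx.notMem_of_mem_minimalPrimes (hann ▸ hη)
      exact Module.mem_support_mono (p := ⟨η, hη.1.1⟩) hle
        (h ⟨η, hη.1.1⟩ fun hIη => hxη (hIη hxI))
    haveI : Module.Finite (EGA4.FibLocRing R S q) (EGA4.FibLocMod R S q M) :=
      Module.Finite.of_restrictScalars_finite L _ _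
    have hdim : Module.supportDim (EGA4.FibLocRing R S q) (EGA4.FibLocMod R S q M) =
        ringKrullDim (EGA4.FibLocRing R S q) := by
      rw [← FlatDepth.supportDim_eq_of_surjective _ hs,
        ← Module.supportDim_self_eq_ringKrullDim, ← FlatDepth.supportDim_eq_of_surjective (A := L) (EGA4.FibLocRing R S q) hs,
        Module.supportDim, Module.supportDim, hsupp]
    have h2 : ((2 : ℕ∞) : WithBot ℕ∞) ≤ ringKrullDim (EGA4.FibLocRing R S q) := by
      rw [← Module.supportDim_self_eq_ringKrullDim]
      exact le_trans (WithBot.coe_le_coe.2 (hd q le_rfl hJq rfl)) DepthLib.depth_le_supportDim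
    rw [hdim] at hsk
    exact WithBot.coe_le_coe.1 (le_trans (le_min le_rfl h2) hsk)

/-- Depth two along `J` at the generisations of a point of the closed fibre. -/
theorem two_le_depth_localized_of_closed_fibre [IsLocalRing R] (J : Ideal S) (q : Ideal S) [q.IsPrime]
    (hmax : q.comap (algebraMap R S) = maximalIdeal R)
    (hd : ∀ (p : Ideal S) [p.IsPrime], p ≤ q → J ≤ p → p.comap (algebraMap R S) = q.comap (algebraMap R S) →
      2 ≤ LocCoh.depth (EGA4.FibLocRing R S p) (EGA4.FibLocRing R S p))
    (p : Ideal S) [p.IsPrime] (hpq : p ≤ q) (hJp : J ≤ p) :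
    2 ≤ LocCoh.depth (Localization.AtPrime p) (Localization.AtPrime p) := by
  let L := Localization.AtPrime q
  haveI : IsLocalHom (algebraMap R L) :=
    ((IsLocalRing.local_hom_TFAE (algebraMap R L)).out 0 2 rfl rfl).2 (by
      rw [IsScalarTower.algebraMap_eq R S L, ← Ideal.map_map, ← Localization.AtPrime.map_eq_maximalIdeal, ← hmax]
      exact Ideal.map_mono Ideal.map_comap_le)
  haveI : Module.Flat R L := Module.Flat.trans R S L
  let e : L ⊗[R] (R ⧸ maximalIdeal R) ≃ₗ[L] EGA4.FibLocRing R S q :=
    (FlatDepth.fibModEquiv L).trans (Submodule.quotEquivOfEq _ _ (by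
      rw [Ideal.smul_eq_mul, Ideal.mul_top, EGA4.mB, hmax]))
  have hJq : J.map (algebraMap S L) ≤ maximalIdeal L := by
    rw [← Localization.AtPrime.map_eq_maximalIdeal]; exact Ideal.map_mono (hJp.trans hpq)
  have h1 : ((2 : ℕ) : ℕ∞) ≤ LocCoh.idealDepth (J.map (algebraMap S L)) L :=
    le_idealDepth_of_closed_fibre (R := R) _ hJq 2 L (by
      rw [DepthLib.idealDepth_congr (M' := EGA4.FibLocRing R S q) e]
      exact_mod_cast two_le_idealDepth_fibLocRing' J q hd)
  let e0 : LocalizedModule q.primeCompl S ≃ₗ[L] L :=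
    (IsLocalizedModule.iso q.primeCompl (Algebra.linearMap S L)).extendScalarsOfIsLocalization q.primeCompl L
  rw [← DepthLib.idealDepth_congr (M' := L) e0] at h1
  have hd' : Disjoint (q.primeCompl : Set S) (p : Set S) := Set.disjoint_left.2 fun a ha ha' => ha (hpq ha')
  haveI hP := IsLocalization.isPrime_of_isPrime_disjoint q.primeCompl L p ‹_› hd'
  have h2 := (DepthLib.natCast_le_idealDepth_iff_forall_localized (R := L) 2).1 h1
    ⟨p.map (algebraMap S L), hP⟩ (Ideal.map_mono hJp)
  rw [(FlatDepth.invariants_localization_localization (M := S) q.primeCompl (p.map (algebraMap S L))).1,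
    (FlatDepth.self_invariants _).1] at h2
  have key : ∀ (a b : Ideal S) [a.IsPrime] [b.IsPrime], a = b →
      ((2 : ℕ) : ℕ∞) ≤ LocCoh.depth (Localization.AtPrime a) (Localization.AtPrime a) →
      ((2 : ℕ) : ℕ∞) ≤ LocCoh.depth (Localization.AtPrime b) (Localization.AtPrime b) := by
    intro a b _ _ e h; subst e; exact h
  exact_mod_cast key _ _ (IsLocalization.under_map_of_isPrime_disjoint q.primeCompl L ‹p.IsPrime› hd') h2

section main

variable {A' B' : Type u} [CommRing A'] [IsNoetherianRing A'] [CommRing B'] [IsNoetherianRing B'] [Algebra A' B'] [Module.Flat A' B']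

/-- If the double dual is relatively `(S₂)` at `q'`, then `G` is flat there. -/
theorem flatAt_coker_of_relS2 [IsLocalRing A'] (J' : Ideal B') (q' : Ideal B') [q'.IsPrime]
    (hmax : q'.comap (algebraMap A' B') = maximalIdeal A')
    (hfib : ∀ (p : Ideal B') [p.IsPrime], p ≤ q' → J' ≤ p → p.comap (algebraMap A' B') = q'.comap (algebraMap A' B') →
      2 ≤ LocCoh.depth (EGA4.FibLocRing A' B' p) (EGA4.FibLocRing A' B' p))
    {F E0 E1 G : Type u} [AddCommGroup F] [Module B' F] [Module.Finite B' F]
    [AddCommGroup E0] [Module B' E0] [Module A' E0] [IsScalarTower A' B' E0] [Module.Finite B' E0]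
    [Module.Projective B' E0]
    [AddCommGroup E1] [Module B' E1] [Module A' E1] [IsScalarTower A' B' E1] [Module.Finite B' E1]
    [Module.Projective B' E1]
    [AddCommGroup G] [Module B' G] [Module A' G] [IsScalarTower A' B' G] [Module.Finite B' G]
    (f' : F →ₗ[B'] E0) (u' : E0 →ₗ[B'] E1) (v' : E1 →ₗ[B'] G) (hfu' : u' ∘ₗ f' = 0)
    (huv' : Function.Exact u' v') (hv' : Function.Surjective v')
    (hsplit : ∀ p : PrimeSpectrum B', ¬ J' ≤ p.asIdeal → ∃ s ∉ p.asIdeal, ∃ (r : E0 →ₗ[B'] F) (w : E1 →ₗ[B'] E0),
      r ∘ₗ f' = s • LinearMap.id ∧ f' ∘ₗ r + w ∘ₗ u' = s • LinearMap.id)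
    (hGU : ∀ p : PrimeSpectrum B', ¬ J' ≤ p.asIdeal → Module.Free (Localization.AtPrime p.asIdeal) (LocalizedModule p.asIdeal.primeCompl G))
    (hflat : Module.Flat A' (LocalizedModule q'.primeCompl (Module.Dual B' (Module.Dual B' F))))
    (hS : LocCoh.HasSk 2 (EGA4.FibLocRing A' B' q') (EGA4.FibLocMod A' B' q' (Module.Dual B' (Module.Dual B' F)))) :
    FlatCA.FlatAt A' q' G := by
  have hdepth := two_le_depth_localized_of_closed_fibre J' q' hmax hfib
  let i : LinearMap.ker u' →ₗ[B'] E0 := (LinearMap.ker u').subtype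
  let φ : F →ₗ[B'] LinearMap.ker u' := f'.codRestrict _ fun x => by
    rw [LinearMap.mem_ker, ← LinearMap.comp_apply, hfu', LinearMap.zero_apply]
  let d := φ.dualMap.dualMap
  let ev := Module.Dual.eval B' (LinearMap.ker u')
  haveI : Module.Finite B' (Module.Dual B' F) := Module.Finite.equiv (LinearEquiv.refl B' _)
  haveI : Module.Finite B' (Module.Dual B' (Module.Dual B' F)) := Module.Finite.equiv (LinearEquiv.refl B' _)
  haveI : Module.Finite B' (Module.Dual B' (LinearMap.ker u')) := Module.Finite.equiv (LinearEquiv.refl B' _)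
  haveI : Module.Finite B' (Module.Dual B' (Module.Dual B' (LinearMap.ker u'))) :=
    Module.Finite.equiv (LinearEquiv.refl B' _)
  have hφ : ∀ p : PrimeSpectrum B', ¬ J' ≤ p.asIdeal → ∃ s ∉ p.asIdeal, ∃ r, IsQuasiInv s φ r := fun p hp => by
    obtain ⟨s, hs, r, w, hrf, hfr⟩ := hsplit p hp
    refine ⟨s, hs, r ∘ₗ i, LinearMap.ext fun x => LinearMap.congr_fun hrf x, LinearMap.ext fun z => Subtype.ext ?_⟩
    have h1 := LinearMap.congr_fun hfr z.1
    simp only [LinearMap.add_apply, LinearMap.comp_apply, LinearMap.mem_ker.1 z.2, map_zero, add_zero] at h1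
    exact h1
  have hev : ∀ p : PrimeSpectrum B', ¬ J' ≤ p.asIdeal → ∃ s ∉ p.asIdeal, ∃ r, IsQuasiInv s ev r := fun p hp => by
    haveI := hGU p hp
    haveI := free_localized_left i u' v'
      (LinearMap.ker u').injective_subtype (LinearMap.exact_subtype_ker_map _) huv' hv' p.asIdeal
    obtain ⟨hk, hc⟩ := DepthLib.eval_locally_bijective (G := LinearMap.ker u') p.asIdeal.primeCompl inferInstance
    exact exists_quasiInv p.asIdeal.primeCompl ev hk hc
  have hK : ∀ (p : Ideal B') [p.IsPrime], p ≤ q' → J' ≤ p → 2 ≤ LocCoh.depth (Localization.AtPrime p)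
      (LocalizedModule p.primeCompl (LinearMap.ker u')) :=
    fun p _ hle hJ => two_le_depth_localized_ker _ p (hdepth p hle hJ)
  have hbev := bijective_localized_of_quasiInv J' q' hK
    (fun p _ hle hJ => le_trans one_le_two (two_le_depth_localized_dual _ p (hdepth p hle hJ))) ev hev
  have hbd := bijective_localized_of_quasiInv J' q'
    (fun p _ hle hJ => two_le_depth_localized_dual (Module.Dual B' F) p (hdepth p hle hJ))
    (fun p _ hle hJ => le_trans one_le_two
      (two_le_depth_localized_dual (Module.Dual B' (LinearMap.ker u')) p (hdepth p hle hJ)))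
    d fun p hp => by
      obtain ⟨s, hs, r, hr⟩ := hφ p hp
      exact ⟨s, hs, r.dualMap.dualMap, hr.dualMap.dualMap⟩
  haveI hKflat : Module.Flat A' (LocalizedModule q'.primeCompl (LinearMap.ker u')) := by
    haveI : Module.Flat A' (LocalizedModule q'.primeCompl (Module.Dual B' (Module.Dual B' F))) := hflat
    exact Module.Flat.of_linearEquiv
      (((LinearEquiv.ofBijective _ hbev).trans (LinearEquiv.ofBijective _ hbd).symm).restrictScalars A')
  let K := LinearMap.ker u'
  let θ := (LinearEquiv.ofBijective _ hbd).trans (LinearEquiv.ofBijective _ hbev).symm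
  let θ' : EGA4.FibLocMod A' B' q' (Module.Dual B' (Module.Dual B' F)) ≃ₗ[Localization.AtPrime q']
      EGA4.FibLocMod A' B' q' (LinearMap.ker u') :=
    Submodule.Quotient.equiv _ _ θ (by rw [Submodule.map_smul'', Submodule.map_top, LinearEquiv.range])
  haveI := FibDepth5.isLocalRing_fibLocRing (A := A') q'
  haveI : Module.Finite (EGA4.FibLocRing A' B' q') (EGA4.FibLocMod A' B' q' (Module.Dual B' (Module.Dual B' F))) :=
    Module.Finite.of_restrictScalars_finite (Localization.AtPrime q') _ _
  have hs : Function.Surjective (algebraMap (Localization.AtPrime q') (EGA4.FibLocRing A' B' q')) :=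
    Ideal.Quotient.mk_surjective
  have hK' := (FibDepth5.hasSk_fibLocMod_iff (A := A') (M := LinearMap.ker u') 2 q').1
    (FibDepth5.hasSk_congr' θ' ((FibDepth5.hasSk_of_surjective hs 2).2 hS))
  haveI : Module.Flat A' E0 := Module.Flat.trans A' B' _
  haveI : Module.Flat A' E1 := Module.Flat.trans A' B' _
  refine (fourTerm_at' (A := A') (B := B') J' q' (F := LinearMap.ker u') (E0 := E0)
    (E1 := E1) (G := G) i u' v'
    (LinearMap.ker u').injective_subtype (LinearMap.exact_subtype_ker_map _) huv' hv'
    (fun p hp => ?_) (fun p _ hle hJ hc => fibre_depth_projective _ p 2 ?_)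
    (fun p _ hle hJ hc => fibre_depth_projective _ p 1 ?_)).1.2 fun p _ hle hJ hc => ?_
  · haveI := hGU p hp
    haveI : Module.Flat A' (Localization.AtPrime p.asIdeal) := Module.Flat.trans A' B' _
    exact Module.Flat.trans A' (Localization.AtPrime p.asIdeal) _
  · rw [FlatDepth.map_fibLocRing_eq_maximalIdeal]
    exact hfib p hle hJ hc
  · rw [FlatDepth.map_fibLocRing_eq_maximalIdeal]
    exact le_trans one_le_two (hfib p hle hJ hc)
  · rw [FlatDepth.map_fibLocRing_eq_maximalIdeal]
    exact two_le_depth_fibre_of_skIneq' J' p hJ (fun r _ hr hJr hcr => hfib r (hr.trans hle) hJr (hcr.trans hc))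
      (fun r _ hr hJr => hdepth r (hr.trans hle) hJr) (LinearMap.ker u')
      (fun r hr => by
        haveI := hGU r hr
        exact free_localized_left i u' v' (LinearMap.ker u').injective_subtype (LinearMap.exact_subtype_ker_map _) huv' hv' r.asIdeal)
      (fun r _ hr hJr => hK r (hr.trans hle) hJr) (hK' p hle hc)

end main

end Groth.Agent.QGor6
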