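import Groth.Agent.Lib.FlatDvr5.Main
import Groth.Agent.Lib.FlatDepth.AtPrime
import Groth.Prelude.Def_FlatCA
import Mathlib

/-!
# The valuative criterion of flatness of a module at a point
-/

set_option autoImplicit false
set_option linter.style.haveILetI false
set_option backward.isDefEq.respectTransparency false
set_option backward.isDefEq.respectTransparency.types false

namespace Groth.Agent.QGor6

universe u

open TensorProduct IsLocalRing

/-- Over a Bézout domain, flatness at a prime is absence of torsion up to scalars outside it. -/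
theorem flat_localized_iff_torsionFree {V B : Type u} [CommRing V] [IsDomain V] [IsBezout V] [CommRing B]
    [Algebra V B] (M : Type u) [AddCommGroup M] [Module B M] [Module V M] [IsScalarTower V B M]
    (Q : Ideal B) [Q.IsPrime] :
    Module.Flat V (LocalizedModule Q.primeCompl M) ↔
      ∀ a : V, a ≠ 0 → ∀ x : M, a • x = 0 → ∃ c ∉ Q, c • x = 0 := by
  rw [Module.Flat.flat_iff_torsion_eq_bot_of_isBezout]
  constructor
  · intro h a ha x hx
    have hz : LocalizedModule.mkLinearMap Q.primeCompl M x ∈ Submodule.torsion V (LocalizedModule Q.primeCompl M) :=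
      ⟨⟨a, mem_nonZeroDivisors_of_ne_zero ha⟩, by
        show a • LocalizedModule.mkLinearMap Q.primeCompl M x = 0
        rw [← algebraMap_smul B a, ← map_smul, algebraMap_smul, hx, map_zero]⟩
    rw [h, Submodule.mem_bot] at hz
    obtain ⟨⟨c, hc⟩, hcx⟩ := (IsLocalizedModule.eq_zero_iff Q.primeCompl (LocalizedModule.mkLinearMap Q.primeCompl M)).1 hz
    exact ⟨c, hc, hcx⟩
  · intro h
    rw [eq_bot_iff]
    rintro z ⟨⟨a, ha⟩, haz⟩
    induction z using LocalizedModule.induction_on with
    | h m t =>
      change a • LocalizedModule.mk m t = 0 at haz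
      rw [← algebraMap_smul B a, LocalizedModule.smul'_mk] at haz
      obtain ⟨⟨c, hc⟩, hcx⟩ := (IsLocalizedModule.mk'_eq_zero' (LocalizedModule.mkLinearMap Q.primeCompl M) t).1
        (by rw [← IsLocalizedModule.mk_eq_mk']; exact haz)
      obtain ⟨d, hd, hdx⟩ := h a (nonZeroDivisors.ne_zero ha) (c • m) (by
        rw [← algebraMap_smul B a, smul_comm]; exact hcx)
      refine (Submodule.mem_bot _).2 ?_
      rw [IsLocalizedModule.mk_eq_mk', IsLocalizedModule.mk'_eq_zero']
      exact ⟨⟨d, hd⟩ * ⟨c, hc⟩, by rw [Submonoid.smul_def]; show (d * c) • m = 0; rw [mul_smul, hdx]⟩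

/-- The valuative criterion for a finite module at a prime over the closed point. -/
theorem flatAt_of_dvr {R C : Type u} [CommRing R] [IsLocalRing R] [IsNoetherianRing R] [IsReduced R]
    [CommRing C] [Algebra R C] [Algebra.FiniteType R C] [Module.Flat R C]
    (G : Type u) [AddCommGroup G] [Module C G] [Module R G] [IsScalarTower R C G] [Module.Finite C G]
    (n : Ideal C) [n.IsPrime] (hn : n.comap (algebraMap R C) = maximalIdeal R)
    (h : ∀ (V : Type u) [CommRing V] [IsDomain V] [IsDiscreteValuationRing V] [Algebra R V],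
      IsLocalHom (algebraMap R V) →
      ∀ (q' : Ideal (V ⊗[R] C)) [q'.IsPrime],
        q'.comap (Algebra.TensorProduct.includeRight : C →ₐ[R] V ⊗[R] C).toRingHom = n →
        (maximalIdeal V).map (algebraMap V (V ⊗[R] C)) ≤ q' →
        letI := Algebra.TensorProduct.rightAlgebra (R := R) (A := V) (B := C)
        Module.Flat V (LocalizedModule q'.primeCompl ((V ⊗[R] C) ⊗[C] G))) :
    FlatCA.FlatAt R n G := by
  letI : Module Cᵐᵒᵖ G := Module.compHom G ((RingHom.id C).fromOpposite mul_comm)
  haveI : IsCentralScalar C G := ⟨fun _ _ => rfl⟩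
  letI : Module Rᵐᵒᵖ G := Module.compHom G ((RingHom.id R).fromOpposite mul_comm)
  haveI : IsCentralScalar R G := ⟨fun _ _ => rfl⟩
  haveI : IsScalarTower R Cᵐᵒᵖ G := ⟨fun a p m => smul_assoc a (MulOpposite.unop p) m⟩
  let T := TrivSqZeroExt C G
  haveI : Module.Finite C T := inferInstanceAs (Module.Finite C (C × G))
  haveI : Algebra.FiniteType C T := inferInstance
  haveI : Algebra.FiniteType R T := Algebra.FiniteType.trans (S := C) inferInstance inferInstance
  let q : Ideal T := n.comap (TrivSqZeroExt.fstHom R C G).toRingHom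
  haveI : q.IsPrime := Ideal.IsPrime.comap _
  have hqp : q.comap (algebraMap R T) = maximalIdeal R := by
    rw [← hn]
    ext r
    simp [q, TrivSqZeroExt.algebraMap_eq_inl']
  haveI : IsNoetherianRing (Localization.AtPrime (maximalIdeal R)) :=
    IsLocalization.isNoetherianRing (maximalIdeal R).primeCompl _ inferInstance
  have hT : Module.Flat R (LocalizedModule q.primeCompl T) := by
    refine FlatDvr5.flat_atPrime_of_dvr (maximalIdeal R) q hqp ?_
    intro V _ _ _ _ hV Q _ hQ hQm
    letI := Algebra.TensorProduct.rightAlgebra (R := R) (A := V) (B := C)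
    have hloc : IsLocalHom (algebraMap R V) := ((IsLocalRing.local_hom_TFAE (algebraMap R V)).out 0 4 rfl rfl).2 hV
    haveI : Module.Flat V (V ⊗[R] C) := inferInstance
    let ι : V ⊗[R] C →ₐ[V] V ⊗[R] T :=
      Algebra.TensorProduct.map (AlgHom.id V V) (TrivSqZeroExt.inlAlgHom R C G)
    let q' : Ideal (V ⊗[R] C) := Q.comap ι.toRingHom
    haveI : q'.IsPrime := Ideal.IsPrime.comap _
    have hq' : q'.comap (Algebra.TensorProduct.includeRight : C →ₐ[R] V ⊗[R] C).toRingHom = n := by
      ext c
      have h1 : (TrivSqZeroExt.inl c : T) ∈ q ↔ c ∈ n := by simp [q]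
      rw [← h1, ← hQ]
      simp [q', ι]
      rfl
    have hcl : (maximalIdeal V).map (algebraMap V (V ⊗[R] C)) ≤ q' := Ideal.map_le_iff_le_comap.2 fun v hv => by
      have h1 : v ∈ Q.comap (algebraMap V (V ⊗[R] T)) := hQm.symm ▸ hv
      rw [Ideal.mem_comap] at h1 ⊢
      show ι (algebraMap V _ v) ∈ Q
      rw [AlgHom.commutes]
      exact h1
    have hflat := (flat_localized_iff_torsionFree ((V ⊗[R] C) ⊗[C] G) q').1 (h V hloc q' hq' hcl)
    haveI : Algebra.IsPushout R V C (V ⊗[R] C) := TensorProduct.isPushout
    let θ := (Algebra.IsPushout.cancelBaseChange R V C (V ⊗[R] C) G).symm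
    let jC := (TrivSqZeroExt.inlAlgHom R C G).toLinearMap.baseChange V
    let jG := ((TrivSqZeroExt.inrHom C G).restrictScalars R).baseChange V
    let pC := (TrivSqZeroExt.fstHom R C G).toLinearMap.baseChange V
    let pG := ((TrivSqZeroExt.sndHom C G).restrictScalars R).baseChange V
    have hsum : ∀ x, jC (pC x) + jG (pG x) = x := fun x => by
      induction x with
      | zero => simp
      | tmul v t => simp [jC, jG, pC, pG, ← tmul_add, TrivSqZeroExt.inl_fst_add_inr_snd_eq]
      | add a b ha hb => simp only [map_add]; rw [add_add_add_comm, ha, hb]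
    have hsemi : ∀ c y, ι c * jG y = jG (θ.symm (c • θ y)) := fun c y => by
      induction c with
      | zero => simp
      | add a b ha hb => simp only [map_add, add_mul, add_smul, ha, hb]
      | tmul v c =>
        induction y with
        | zero => simp
        | add a b ha hb => simp only [map_add, mul_add, smul_add, ha, hb]
        | tmul w g =>
          have h1 : (v ⊗ₜ[R] c) • θ (w ⊗ₜ[R] g) = θ ((v * w) ⊗ₜ[R] (c • g)) := by
            simp only [θ, Algebra.IsPushout.cancelBaseChange_symm_tmul, smul_tmul']
            rw [tmul_smul, smul_tmul']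
            congr 1
            rw [Algebra.smul_def]
            show _ = ((1 : V) ⊗ₜ[R] c) * _
            simp
          rw [h1, θ.symm_apply_apply]
          simp [ι, jG]
          exact congrArg _ ((TrivSqZeroExt.inl_mul_inr c g).trans (TrivSqZeroExt.inr_smul C c g))
    have hgoal : Module.Flat V (LocalizedModule Q.primeCompl (V ⊗[R] T)) := by
      refine (flat_localized_iff_torsionFree (V ⊗[R] T) Q).2 fun a ha x hx => ?_
      have h1 : pC x = 0 := by
        have := congrArg pC hx
        rw [map_smul, map_zero] at this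
        exact (Module.Flat.isSMulRegular_of_isRegular (M := V ⊗[R] C) (isRegular_iff_ne_zero.2 ha))
          (this.trans (smul_zero a).symm)
      obtain ⟨c, hc, hc0⟩ := hflat a ha (θ (pG x)) (by rw [← map_smul θ, ← map_smul pG, hx, map_zero, map_zero])
      refine ⟨ι c, hc, ?_⟩
      rw [smul_eq_mul]
      conv_lhs => rw [← hsum x, h1, map_zero, zero_add]
      rw [hsemi, hc0, map_zero, map_zero]
    exact hgoal
  let g : T →ₗ[C] LocalizedModule q.primeCompl T :=
    (LocalizedModule.mkLinearMap q.primeCompl T).restrictScalars C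
  have hsq : ∀ w : TrivSqZeroExt C G, w * (TrivSqZeroExt.inl w.fst - TrivSqZeroExt.inr w.snd) = TrivSqZeroExt.inl (w.fst * w.fst) :=
    fun w => by ext <;> simp [op_smul_eq_smul, smul_neg]
  have hmem : ∀ c : C, c ∉ n → algebraMap C T c ∈ q.primeCompl := fun c hc h => hc (by exact h)
  haveI : IsLocalizedModule n.primeCompl g :=
    { map_units := fun c => by
        have h1 := IsLocalizedModule.map_units (LocalizedModule.mkLinearMap q.primeCompl T)
          (⟨algebraMap C T c, hmem c c.2⟩ : q.primeCompl)
        rw [Module.End.isUnit_iff] at h1 ⊢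
        refine (congrArg Function.Bijective (funext fun z => ?_)).mp h1
        exact algebraMap_smul T c.1 z
      surj := fun y => by
        obtain ⟨⟨t, w⟩, hw⟩ := IsLocalizedModule.surj q.primeCompl (LocalizedModule.mkLinearMap q.primeCompl T) y
        have hwn : w.1.fst ∉ n := fun h => w.2 (show w.1.fst ∈ n from h)
        refine ⟨⟨(TrivSqZeroExt.inl w.1.fst - TrivSqZeroExt.inr w.1.snd) * t,
          ⟨w.1.fst * w.1.fst, fun h => (Ideal.IsPrime.mem_or_mem ‹n.IsPrime› h).elim hwn hwn⟩⟩, ?_⟩
        show (w.1.fst * w.1.fst) • y = g _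
        rw [← algebraMap_smul T, TrivSqZeroExt.algebraMap_eq_inl, ← hsq, mul_comm, mul_smul,
          show w.1 • y = LocalizedModule.mkLinearMap q.primeCompl T t from hw, ← map_smul, smul_eq_mul]
        rfl
      exists_of_eq := fun {x₁ x₂} hx => by
        obtain ⟨w, hw⟩ := IsLocalizedModule.exists_of_eq (S := q.primeCompl)
          (f := LocalizedModule.mkLinearMap q.primeCompl T) hx
        have hwn : w.1.fst ∉ n := fun h => w.2 (show w.1.fst ∈ n from h)
        refine ⟨⟨w.1.fst * w.1.fst, fun h => (Ideal.IsPrime.mem_or_mem ‹n.IsPrime› h).elim hwn hwn⟩, ?_⟩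
        show (w.1.fst * w.1.fst) • x₁ = (w.1.fst * w.1.fst) • x₂
        rw [← algebraMap_smul T (w.1.fst * w.1.fst) x₁, ← algebraMap_smul T (w.1.fst * w.1.fst) x₂,
          TrivSqZeroExt.algebraMap_eq_inl, ← hsq, mul_comm, mul_smul, mul_smul]
        exact congrArg _ hw }
  haveI : Module.Flat R (LocalizedModule n.primeCompl T) :=
    Module.Flat.of_linearEquiv ((IsLocalizedModule.iso n.primeCompl g).restrictScalars R)
  refine Module.Flat.of_retract
    ((LocalizedModule.map n.primeCompl (TrivSqZeroExt.inrHom C G)).restrictScalars R)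
    ((LocalizedModule.map n.primeCompl (TrivSqZeroExt.sndHom C G)).restrictScalars R) ?_
  refine LinearMap.ext fun z => ?_
  induction z using LocalizedModule.induction_on with
  | h m t => simp [LocalizedModule.map_mk]

end Groth.Agent.QGor6
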